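import Mathlib

/-!
Finite algebras of characteristic two with the left and right inverse properties are fields.
-/

set_option autoImplicit false

namespace CfsgLib.TISpecial

universe u

/-- A biadditive multiplication with a unit, of exponent two, with both inverse properties. -/
structure IPAlg (D : Type u) [AddCommGroup D] where
  M : D →+ D →+ D
  one : D
  one_mul : ∀ x, M one x = x
  mul_one : ∀ x, M x one = x
  char2 : ∀ x : D, x + x = 0
  linv : ∀ a, a ≠ 0 → ∃ a', ∀ x, M a' (M a x) = x
  rinv : ∀ a, a ≠ 0 → ∃ a', ∀ x, M (M x a) a' = x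

namespace IPAlg

variable {D : Type u} [AddCommGroup D] (A : IPAlg D)

def swap : IPAlg D where
  M := A.M.flip
  one := A.one
  one_mul := A.mul_one
  mul_one := A.one_mul
  char2 := A.char2
  linv := A.rinv
  rinv := A.linv

/-- Left multiplication. -/
def L (a : D) : AddMonoid.End D := A.M a

/-- Right multiplication. -/
def R (a : D) : AddMonoid.End D := A.M.flip a

theorem L_apply (a x : D) : A.L a x = A.M a x := rfl

theorem R_apply (a x : D) : A.R a x = A.M x a := rfl

theorem swap_L (a : D) : A.swap.L a = A.R a := rfl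

theorem swap_M (a x : D) : A.swap.M a x = A.M x a := rfl

theorem L_add (a b : D) : A.L (a + b) = A.L a + A.L b := A.M.map_add a b

theorem L_zero : A.L 0 = 0 := A.M.map_zero

theorem L_one : A.L A.one = 1 := AddMonoidHom.ext A.one_mul

theorem L_inj {a b : D} (h : A.L a = A.L b) : a = b := by
  have := congrArg (fun f : AddMonoid.End D => f A.one) h
  simpa [L_apply, A.mul_one] using this

theorem L_at_one (a : D) : A.L a A.one = a := A.mul_one a

include A in
theorem add_self' (x : D) : x + x = 0 := A.char2 x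

include A in
theorem end_add_self (f : AddMonoid.End D) : f + f = 0 := AddMonoidHom.ext fun x => A.char2 (f x)

include A in
theorem eq_of_add_eq_zero {x y : D} (h : x + y = 0) : x = y :=
  calc x = x + (y + y) := by rw [A.char2, add_zero]
    _ = (x + y) + y := by abel
    _ = y := by rw [h, zero_add]

include A in
theorem end_eq_of_add_eq_zero {f g : AddMonoid.End D} (h : f + g = 0) : f = g :=
  AddMonoidHom.ext fun x => A.eq_of_add_eq_zero (DFunLike.congr_fun h x)

theorem exists_inv [Finite D] {a : D} (ha : a ≠ 0) : ∃ a', A.L a' * A.L a = 1 ∧ A.L a * A.L a' = 1 := by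
  obtain ⟨a', h⟩ := A.linv a ha
  have hinj : Function.Injective (A.L a) := fun x y e => by
    have := congrArg (A.M a') e
    simpa [L_apply, h] using this
  have hsur := Finite.injective_iff_surjective.mp hinj
  refine ⟨a', AddMonoidHom.ext h, AddMonoidHom.ext fun x => ?_⟩
  obtain ⟨y, rfl⟩ := hsur x
  show A.M a (A.M a' (A.M a y)) = A.M a y
  rw [h]

theorem eq_zero_of_mul [Finite D] {a x : D} (ha : a ≠ 0) (h : A.M a x = 0) : x = 0 := by
  obtain ⟨a', h', -⟩ := A.exists_inv ha
  have e := DFunLike.congr_fun h' x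
  change A.M a' (A.M a x) = x at e
  rw [h, map_zero] at e
  exact e.symm

theorem L_mul_apply (f g : AddMonoid.End D) (x : D) : (f * g) x = f (g x) := rfl

/-- Hua's identity. -/
theorem hua [Finite D] (a b : D) : A.L a * A.L b * A.L a = A.L (A.M a (A.M b a)) := by
  suffices h : ∃ c, A.L a * A.L b * A.L a = A.L c by
    obtain ⟨c, hc⟩ := h
    have := congrArg (fun f : AddMonoid.End D => f A.one) hc
    simp only [L_mul_apply, L_at_one] at this
    rw [hc]
    exact congrArg A.L this.symm
  by_cases ha : a = 0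
  · exact ⟨0, by simp [ha, L_zero]⟩
  by_cases hb : b = 0
  · exact ⟨0, by simp [hb, L_zero]⟩
  by_cases hD : A.one = 0
  · have hz : ∀ z : D, z = 0 := fun z => by rw [← A.one_mul z, hD, map_zero]; rfl
    exact ⟨0, AddMonoidHom.ext fun x => (hz _).trans (hz _).symm⟩
  obtain ⟨a', ha1, -⟩ := A.exists_inv ha
  obtain ⟨b', hb1, hb2⟩ := A.exists_inv hb
  by_cases hd : b' + a = 0
  · have : b' = a := A.eq_of_add_eq_zero hd
    subst this
    exact ⟨_, by rw [hb1, _root_.one_mul]⟩
  obtain ⟨d', hd1, -⟩ := A.exists_inv hd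
  set X := A.L a + A.L a * A.L b * A.L a with hX
  have hprod : A.L (a' + d') * X = 1 := by
    have e1 : A.L a' * X = 1 + A.L b * A.L a := by
      rw [hX, mul_add, ← mul_assoc, ← mul_assoc, ha1, _root_.one_mul]
    have e2 : A.L (b' + a) * (A.L b * A.L a) = X := by
      rw [hX, L_add, add_mul, ← mul_assoc, hb1, _root_.one_mul, ← mul_assoc]
    have e3 : A.L d' * X = A.L b * A.L a := by rw [← e2, ← mul_assoc, hd1, _root_.one_mul]
    rw [L_add, add_mul, e1, e3, add_assoc, A.end_add_self, add_zero]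
  have hs : a' + d' ≠ 0 := fun e => by
    rw [e, L_zero, zero_mul] at hprod
    exact hD (DFunLike.congr_fun hprod A.one).symm
  obtain ⟨s', hs1, -⟩ := A.exists_inv hs
  have hXs : A.L s' = X := by
    have := congrArg (A.L s' * ·) hprod
    simp only [← mul_assoc, hs1, _root_.one_mul, _root_.mul_one] at this
    exact this.symm
  refine ⟨s' + a, A.end_eq_of_add_eq_zero ?_⟩
  rw [L_add, hXs, hX]
  have := A.end_add_self (A.L a + A.L a * A.L b * A.L a)
  calc A.L a * A.L b * A.L a + (A.L a + A.L a * A.L b * A.L a + A.L a)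
      = (A.L a + A.L a * A.L b * A.L a) + (A.L a + A.L a * A.L b * A.L a) := by abel
    _ = 0 := this

theorem L_sq [Finite D] (a : D) : A.L a * A.L a = A.L (A.M a a) := by
  have := A.hua a A.one
  rwa [L_one, _root_.mul_one, A.one_mul] at this

theorem lalt [Finite D] (a x : D) : A.M a (A.M a x) = A.M (A.M a a) x :=
  DFunLike.congr_fun (A.L_sq a) x

theorem ralt [Finite D] (a x : D) : A.M (A.M x a) a = A.M x (A.M a a) := A.swap.lalt a x

/-- The associator. -/
def assoc3 (a b c : D) : D := A.M (A.M a b) c + A.M a (A.M b c)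

theorem symm12 [Finite D] (a b c : D) : A.assoc3 a b c = A.assoc3 b a c := by
  have h := A.lalt (a + b) c
  simp only [map_add, AddMonoidHom.add_apply] at h
  rw [A.lalt a, A.lalt b] at h
  refine A.eq_of_add_eq_zero ?_
  rw [assoc3, assoc3]
  have h2 : A.M a (A.M b c) + A.M b (A.M a c) = A.M (A.M a b) c + A.M (A.M b a) c := by
    have h3 := congrArg (fun t => t + A.M (A.M a a) c + A.M (A.M b b) c) h
    calc A.M a (A.M b c) + A.M b (A.M a c)
        = (A.M a (A.M b c) + A.M b (A.M a c)) + (A.M (A.M a a) c + A.M (A.M a a) c) +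
            (A.M (A.M b b) c + A.M (A.M b b) c) := by rw [A.char2, A.char2, add_zero, add_zero]
      _ = (A.M (A.M a b) c + A.M (A.M b a) c) + (A.M (A.M a a) c + A.M (A.M a a) c) +
            (A.M (A.M b b) c + A.M (A.M b b) c) := by
          convert h3 using 1 <;> abel
      _ = A.M (A.M a b) c + A.M (A.M b a) c := by rw [A.char2, A.char2, add_zero, add_zero]
  calc A.M (A.M a b) c + A.M a (A.M b c) + (A.M (A.M b a) c + A.M b (A.M a c))
      = (A.M a (A.M b c) + A.M b (A.M a c)) + (A.M (A.M a b) c + A.M (A.M b a) c) := by abel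
    _ = 0 := by rw [h2, A.char2]

theorem symm23 [Finite D] (a b c : D) : A.assoc3 a b c = A.assoc3 a c b := by
  have h := A.swap.symm12 c b a
  simp only [assoc3, swap_M] at h ⊢
  rw [add_comm, h, add_comm]

theorem flexible [Finite D] (a b : D) : A.M (A.M a b) a = A.M a (A.M b a) := by
  refine A.eq_of_add_eq_zero ?_
  change A.assoc3 a b a = 0
  rw [A.symm23, assoc3, A.lalt, A.char2]

theorem commute_LR [Finite D] (a : D) : Commute (A.L a) (A.R a) :=
  AddMonoidHom.ext fun x => (A.flexible a x).symm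

/-- Powers. -/
def pw (a : D) (n : ℕ) : D := (A.L a ^ n : AddMonoid.End D) A.one

theorem pw_zero (a : D) : A.pw a 0 = A.one := by simp [pw]

theorem pw_one (a : D) : A.pw a 1 = a := by simp [pw, L_at_one]

theorem pw_succ (a : D) (n : ℕ) : A.pw a (n + 1) = A.M a (A.pw a n) := by
  rw [pw, pow_succ']; rfl

theorem pw_succ' [Finite D] (a : D) (n : ℕ) : A.pw a (n + 1) = A.M (A.pw a n) a := by
  have hcomm : Commute (A.L a ^ n) (A.R a) := (A.commute_LR a).pow_left n
  have := DFunLike.congr_fun hcomm.eq A.one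
  simp only [L_mul_apply, R_apply, A.one_mul] at this
  rw [pw, pow_succ, L_mul_apply, L_at_one]
  exact this

theorem swap_pw [Finite D] (a : D) (n : ℕ) : A.swap.pw a n = A.pw a n := by
  induction n with
  | zero => rw [pw_zero, pw_zero]; rfl
  | succ n ih => rw [pw_succ, ih, A.pw_succ' a n]; rfl

theorem L_pw [Finite D] (a : D) (n : ℕ) : A.L (A.pw a n) = A.L a ^ n := by
  induction n using Nat.strong_induction_on with
  | h n ih =>
    match n with
    | 0 => rw [pw_zero, L_one, pow_zero]
    | 1 => rw [pw_one, pow_one]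
    | n + 2 =>
      rw [show A.L a ^ (n + 2) = A.L a * A.L a ^ n * A.L a by rw [← pow_succ', ← pow_succ],
        ← ih n (by omega), A.hua, ← A.pw_succ' a n, ← pw_succ]

theorem R_pw [Finite D] (a : D) (n : ℕ) : A.R (A.pw a n) = A.R a ^ n := by
  rw [← A.swap_pw]
  exact A.swap.L_pw a n

/-! ### Commuting sets of left multiplications -/

/-- The left multiplications. -/
def Lset : AddSubgroup (AddMonoid.End D) := (A.M : D →+ AddMonoid.End D).range

theorem mem_Lset {f : AddMonoid.End D} : f ∈ A.Lset ↔ ∃ a, A.L a = f := Iff.rfl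

theorem subring_closure_le {s : Set (AddMonoid.End D)}
    (h : (Submonoid.closure s : Set (AddMonoid.End D)) ⊆ A.Lset) :
    (Subring.closure s : Set (AddMonoid.End D)) ⊆ A.Lset := fun _ hx =>
  (AddSubgroup.closure_le _).mpr h (Subring.mem_closure_iff.mp hx)

theorem closure_singleton_le [Finite D] (b : D) :
    (Subring.closure ({A.L b} : Set (AddMonoid.End D)) : Set (AddMonoid.End D)) ⊆ A.Lset := by
  refine A.subring_closure_le fun x hx => ?_
  obtain ⟨n, rfl⟩ := Submonoid.mem_closure_singleton.mp hx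
  exact ⟨A.pw b n, A.L_pw b n⟩

theorem eq_zero_of_sq [Finite D] {f : AddMonoid.End D} (hf : f ∈ A.Lset) (h : f * f = 0) : f = 0 := by
  obtain ⟨a, rfl⟩ := A.mem_Lset.mp hf
  by_contra hne
  have ha : a ≠ 0 := fun e => hne (by rw [e, L_zero])
  obtain ⟨a', h1, -⟩ := A.exists_inv ha
  have := congrArg (A.L a' * ·) h
  simp only [← mul_assoc, h1, _root_.one_mul, mul_zero] at this
  exact hne this

theorem mul_mem_of_commute [Finite D] {f g : AddMonoid.End D} (hf : f ∈ A.Lset) (hg : g ∈ A.Lset)
    (hc : Commute f g) : f * g ∈ A.Lset := by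
  obtain ⟨b, rfl⟩ := A.mem_Lset.mp hg
  set C := Subring.closure ({A.L b} : Set (AddMonoid.End D)) with hC
  haveI : Finite (AddMonoid.End D) := Finite.of_injective _ DFunLike.coe_injective
  have hCc : ∀ x ∈ C, ∀ y ∈ C, x * y = y * x := fun x hx y hy =>
    congrArg Subtype.val ((Subring.closureCommRingOfComm (s := ({A.L b} : Set (AddMonoid.End D)))
      (by rintro _ rfl _ rfl; rfl)).mul_comm ⟨x, hx⟩ ⟨y, hy⟩)
  have hinj : Function.Injective fun x : C => x * x := by
    intro x y e
    have e' : (x : AddMonoid.End D) * x = y * y := congrArg Subtype.val e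
    have : ((x : AddMonoid.End D) + y) * (x + y) = 0 := by
      rw [add_mul, mul_add, mul_add, hCc _ y.2 _ x.2, e']
      calc (y : AddMonoid.End D) * y + x * y + (x * y + y * y)
          = ((y : AddMonoid.End D) * y + y * y) + ((x : AddMonoid.End D) * y + x * y) := by abel
        _ = 0 := by rw [A.end_add_self, A.end_add_self, add_zero]
    exact Subtype.ext (A.end_eq_of_add_eq_zero
      (A.eq_zero_of_sq (A.closure_singleton_le b (C.add_mem x.2 y.2)) this))
  obtain ⟨e, he⟩ := (Finite.injective_iff_surjective.mp hinj) ⟨A.L b, Subring.subset_closure rfl⟩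
  have he' : (e : AddMonoid.End D) * e = A.L b := congrArg Subtype.val he
  have hfe : Commute f e := by
    have : C ≤ Subring.centralizer {f} := Subring.closure_le.mpr (by
      rintro _ rfl
      exact Subring.mem_centralizer_iff.mpr (by rintro _ rfl; exact hc.eq))
    exact Subring.mem_centralizer_iff.mp (this e.2) f rfl
  obtain ⟨a, rfl⟩ := A.mem_Lset.mp hf
  obtain ⟨e0, he0⟩ := A.mem_Lset.mp (A.closure_singleton_le b e.2)
  refine ⟨A.M e0 (A.M a e0), ?_⟩
  show A.L _ = _
  rw [← A.hua, he0, ← hfe.eq, mul_assoc, he']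

theorem closure_comm_le [Finite D] {s : Set (AddMonoid.End D)} (hs : s ⊆ A.Lset)
    (hc : ∀ x ∈ s, ∀ y ∈ s, x * y = y * x) :
    (Subring.closure s : Set (AddMonoid.End D)) ⊆ A.Lset := by
  refine A.subring_closure_le fun x hx => ?_
  induction hx using Submonoid.closure_induction with
  | mem x hx => exact hs hx
  | one => exact ⟨A.one, A.L_one⟩
  | mul x y hx hy ihx ihy =>
    refine A.mul_mem_of_commute ihx ihy ?_
    exact congrArg Subtype.val ((Submonoid.isMulCommutative_closure _ hc).is_comm.comm ⟨x, hx⟩ ⟨y, hy⟩)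

/-! ### A field of left multiplications -/

/-- A field of left multiplications with a generator of its unit group. -/
structure Base where
  K : Subring (AddMonoid.End D)
  le : (K : Set (AddMonoid.End D)) ⊆ A.Lset
  comm : ∀ x ∈ K, ∀ y ∈ K, x * y = y * x
  a : D
  ha : A.L a ∈ K
  gen : ∀ x ∈ K, x = 0 ∨ ∃ n : ℕ, A.L a ^ n = x
  max : ∀ g ∈ A.Lset, g * A.L a = A.L a * g → g ∈ K

theorem exists_base [Finite D] [Nontrivial D] : Nonempty A.Base := by
  haveI : Finite (AddMonoid.End D) := Finite.of_injective _ DFunLike.coe_injective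
  haveI : Finite (Subring (AddMonoid.End D)) := Finite.of_injective _ SetLike.coe_injective
  classical
  let T : Set (Subring (AddMonoid.End D)) :=
    {K | (K : Set (AddMonoid.End D)) ⊆ A.Lset ∧ ∀ x ∈ K, ∀ y ∈ K, x * y = y * x}
  have hne : T.Nonempty := by
    refine ⟨Subring.closure {A.L A.one}, A.closure_singleton_le A.one, fun x hx y hy => ?_⟩
    exact congrArg Subtype.val ((Subring.closureCommRingOfComm (s := ({A.L A.one} : Set (AddMonoid.End D)))
      (by rintro _ rfl _ rfl; rfl)).mul_comm ⟨x, hx⟩ ⟨y, hy⟩)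
  obtain ⟨K, ⟨hKS, hKc⟩, hmax⟩ := Set.exists_max_image T (fun K => Nat.card K) (Set.toFinite _) hne
  letI : CommRing K := { K.toRing with mul_comm := fun x y => Subtype.ext (hKc _ x.2 _ y.2) }
  have hone : (1 : AddMonoid.End D) ≠ 0 := fun e => by
    obtain ⟨x, hx⟩ := exists_ne (0 : D)
    exact hx (DFunLike.congr_fun e x)
  haveI : Nontrivial K := ⟨⟨1, 0, fun e => hone (congrArg Subtype.val e)⟩⟩
  haveI : NoZeroDivisors K := ⟨fun {x y} e => by
    by_contra hxy
    push Not at hxy
    obtain ⟨a, ha⟩ := A.mem_Lset.mp (hKS x.2)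
    have ha0 : a ≠ 0 := fun h => hxy.1 (Subtype.ext (by rw [← ha, h, L_zero]; rfl))
    obtain ⟨a', h1, -⟩ := A.exists_inv ha0
    refine hxy.2 (Subtype.ext ?_)
    have e' : (x : AddMonoid.End D) * y = 0 := congrArg Subtype.val e
    have := congrArg (A.L a' * ·) e'
    simp only [← mul_assoc, ← ha, h1, _root_.one_mul, mul_zero] at this
    exact this⟩
  haveI : IsDomain K := NoZeroDivisors.to_isDomain K
  haveI : Fintype K := Fintype.ofFinite _
  obtain ⟨g, hg⟩ := IsCyclic.exists_generator (α := Kˣ)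
  have hgen' : ∀ x : K, x = 0 ∨ ∃ n : ℕ, (g : K) ^ n = x := fun x => by
    by_cases hx : x = 0
    · exact Or.inl hx
    obtain ⟨y, hy⟩ := (Finite.isField_of_domain K).mul_inv_cancel hx
    obtain ⟨n, hn⟩ := (Submonoid.mem_powers_iff _ _).mp
      (mem_powers_iff_mem_zpowers.mpr (hg (Units.mkOfMulEqOne x y hy)))
    exact Or.inr ⟨n, by rw [← Units.val_pow_eq_pow_val, hn]; rfl⟩
  obtain ⟨a, ha⟩ := A.mem_Lset.mp (hKS (g : K).2)
  have hgen : ∀ x ∈ K, x = 0 ∨ ∃ n : ℕ, A.L a ^ n = x := fun x hx => by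
    rcases hgen' ⟨x, hx⟩ with h | ⟨n, hn⟩
    · exact Or.inl (congrArg Subtype.val h)
    · exact Or.inr ⟨n, by rw [ha]; exact congrArg Subtype.val hn⟩
  refine ⟨⟨K, hKS, hKc, a, ha ▸ (g : K).2, hgen, fun f hf hfc => ?_⟩⟩
  have hfK : ∀ x ∈ K, f * x = x * f := fun x hx => by
    rcases hgen x hx with rfl | ⟨n, rfl⟩
    · simp
    · exact (Commute.pow_right hfc n).eq
  set s : Set (AddMonoid.End D) := insert f (K : Set (AddMonoid.End D)) with hs
  have hsc : ∀ x ∈ s, ∀ y ∈ s, x * y = y * x := by
    rintro x (rfl | hx) y (rfl | hy)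
    · rfl
    · exact hfK y hy
    · exact (hfK x hx).symm
    · exact hKc x hx y hy
  have hK' : Subring.closure s ∈ T := ⟨A.closure_comm_le (Set.insert_subset hf hKS) hsc, fun x hx y hy =>
    congrArg Subtype.val ((Subring.closureCommRingOfComm hsc).mul_comm ⟨x, hx⟩ ⟨y, hy⟩)⟩
  have hKle : (K : Set (AddMonoid.End D)) ⊆ (Subring.closure s : Set (AddMonoid.End D)) :=
    fun x hx => Subring.subset_closure (Or.inr hx)
  have : (K : Set (AddMonoid.End D)) = (Subring.closure s : Set (AddMonoid.End D)) :=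
    Set.eq_of_subset_of_ncard_le hKle (by
      rw [← Nat.card_coe_set_eq, ← Nat.card_coe_set_eq]; exact hmax _ hK') (Set.toFinite _)
  exact this.ge (Subring.subset_closure (Or.inl rfl))

namespace Base

variable {A} (B : A.Base)

theorem exists_vec {k : AddMonoid.End D} (hk : k ∈ B.K) : A.L (k A.one) = k := by
  obtain ⟨x, rfl⟩ := A.mem_Lset.mp (B.le hk)
  rw [A.L_at_one]

theorem inj {k : AddMonoid.End D} (hk : k ∈ B.K) {v : D} (hv : v ≠ 0) (h : k v = 0) [Finite D] : k = 0 := by
  obtain ⟨x, rfl⟩ := A.mem_Lset.mp (B.le hk)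
  by_contra hne
  exact hv (A.eq_zero_of_mul (fun e => hne (by rw [e, A.L_zero])) h)

/-- Right multiplication by elements of the field commutes with the field. -/
theorem commute_R [Finite D] {k k' : AddMonoid.End D} (hk : k ∈ B.K) (hk' : k' ∈ B.K) :
    Commute k (A.R (k' A.one)) := by
  rcases B.gen k' hk' with rfl | ⟨n, rfl⟩
  · rw [show A.R ((0 : AddMonoid.End D) A.one) = 0 from A.M.flip.map_zero]
    exact Commute.zero_right _
  rcases B.gen k hk with rfl | ⟨m, rfl⟩
  · exact Commute.zero_left _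
  show Commute _ (A.R (A.pw B.a n))
  rw [A.R_pw]
  exact (A.commute_LR B.a).pow_pow m n

theorem R_mul [Finite D] {k k' : AddMonoid.End D} (hk : k ∈ B.K) (hk' : k' ∈ B.K) :
    A.R ((k * k') A.one) = A.R (k' A.one) * A.R (k A.one) := by
  have h0 : A.R (0 : D) = 0 := A.M.flip.map_zero
  rcases B.gen k hk with rfl | ⟨m, rfl⟩
  · rw [zero_mul, show ((0 : AddMonoid.End D) A.one) = 0 from rfl, h0, mul_zero]
  rcases B.gen k' hk' with rfl | ⟨n, rfl⟩
  · rw [mul_zero, show ((0 : AddMonoid.End D) A.one) = 0 from rfl, h0, zero_mul]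
  rw [← pow_add]
  show A.R (A.pw B.a (m + n)) = A.R (A.pw B.a n) * A.R (A.pw B.a m)
  rw [A.R_pw, A.R_pw, A.R_pw, ← pow_add, add_comm m n]

theorem mem_of_fixed [Finite D] {x : D} (h : A.R B.a x = A.L B.a x) : A.L x ∈ B.K := by
  refine B.max _ ⟨x, rfl⟩ ?_
  refine A.end_eq_of_add_eq_zero (AddMonoidHom.ext fun y => ?_)
  have h2 := A.symm12 x B.a y
  rw [assoc3, assoc3, show A.M x B.a = A.M B.a x from h] at h2
  show A.M x (A.M B.a y) + A.M B.a (A.M x y) = 0
  have h3 := congrArg (fun t => t + A.M (A.M B.a x) y) h2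
  calc A.M x (A.M B.a y) + A.M B.a (A.M x y)
      = (A.M (A.M B.a x) y + A.M x (A.M B.a y)) + (A.M (A.M B.a x) y + A.M B.a (A.M x y)) := by
        calc A.M x (A.M B.a y) + A.M B.a (A.M x y)
            = A.M x (A.M B.a y) + A.M B.a (A.M x y) + (A.M (A.M B.a x) y + A.M (A.M B.a x) y) := by
              rw [A.char2 (A.M (A.M B.a x) y), add_zero]
          _ = _ := by abel
    _ = 0 := by rw [h2, A.char2]

end Base

end IPAlg

end CfsgLib.TISpecial
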