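import Cfsg.Agent.Lib.TISpecial.Algebra

/-!
The field theorem for algebras with both inverse properties.
-/

set_option autoImplicit false

namespace CfsgLib.TISpecial

namespace IPAlg

universe u

variable {D : Type u} [AddCommGroup D] {A : IPAlg D} [Finite D]

namespace Base

variable (B : A.Base)

theorem pow_mem (n : ℕ) : A.L B.a ^ n ∈ B.K := Subring.pow_mem _ B.ha n

theorem isUnit_L {x : D} (hx : x ≠ 0) : IsUnit (A.L x) :=
  let ⟨x', h1, h2⟩ := A.exists_inv hx
  ⟨⟨A.L x, A.L x', h2, h1⟩, rfl⟩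

theorem apply_R (b : D) (j : ℕ) {W : AddMonoid.End D} (hW : W ∈ B.K) :
    W (A.pw b j) = (A.R b ^ j : AddMonoid.End D) (W A.one) := by
  rw [← A.R_pw]
  conv_lhs => rw [← B.exists_vec hW]
  rfl

theorem K_R (b : D) (j : ℕ) {W V : AddMonoid.End D} (hW : W ∈ B.K) (hV : V ∈ B.K) :
    W ((A.R b ^ j : AddMonoid.End D) (V A.one)) = (A.R b ^ j : AddMonoid.End D) ((W * V) A.one) := by
  rw [← A.R_pw]
  set c := A.pw b j
  conv_lhs => rw [← B.exists_vec hW]
  show A.M (W A.one) (A.M (V A.one) c) = A.M (W (V A.one)) c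
  have e : W (V A.one) = A.M (W A.one) (V A.one) := by
    conv_lhs => rw [← B.exists_vec hW]
    rfl
  have hc : A.M (A.M (W A.one) c) (V A.one) = A.M (W A.one) (A.M c (V A.one)) := by
    have := DFunLike.congr_fun (B.commute_R hW hV).eq c
    simp only [L_mul_apply, R_apply] at this
    conv_lhs at this => rw [← B.exists_vec hW]
    conv_rhs at this => rw [← B.exists_vec hW]
    exact this.symm
  rw [e]
  refine A.eq_of_add_eq_zero ?_
  rw [add_comm]
  change A.assoc3 (W A.one) (V A.one) c = 0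
  rw [A.symm23, assoc3, hc, A.char2]

theorem twist_R {b : D} {σ : AddMonoid.End D → AddMonoid.End D} (hσK : ∀ Z ∈ B.K, σ Z ∈ B.K)
    (hb : ∀ Z ∈ B.K, A.M b (Z A.one) = σ Z b) (j : ℕ) {W : AddMonoid.End D} (hW : W ∈ B.K) :
    A.L b ((A.R b ^ j : AddMonoid.End D) (W A.one)) =
      (A.R b ^ (j + 1) : AddMonoid.End D) (σ W A.one) := by
  have h1 := DFunLike.congr_fun ((A.commute_LR b).pow_right j).eq (W A.one)
  simp only [L_mul_apply] at h1
  rw [h1, pow_succ, L_mul_apply]
  congr 1
  rw [L_apply, hb W hW, R_apply]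
  conv_lhs => rw [← B.exists_vec (hσK W hW)]
  rfl

theorem twist_pow {b : D} {σ : AddMonoid.End D → AddMonoid.End D} (hσK : ∀ Z ∈ B.K, σ Z ∈ B.K)
    (hb : ∀ Z ∈ B.K, A.M b (Z A.one) = σ Z b) (j : ℕ) {Z : AddMonoid.End D} (hZ : Z ∈ B.K) :
    A.M (A.pw b j) (Z A.one) = (σ^[j] Z) (A.pw b j) := by
  have hmem : ∀ i, σ^[i] Z ∈ B.K := fun i => by
    induction i with
    | zero => exact hZ
    | succ i ih => rw [Function.iterate_succ_apply']; exact hσK _ ih
  have key : ∀ i, (A.L b ^ i : AddMonoid.End D) (Z A.one) =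
      (A.R b ^ i : AddMonoid.End D) (σ^[i] Z A.one) := by
    intro i
    induction i with
    | zero => simp
    | succ i ih =>
      rw [pow_succ', L_mul_apply, ih, B.twist_R hσK hb i (hmem i), Function.iterate_succ_apply']
  rw [← A.L_apply, A.L_pw, key, B.apply_R b j (hmem j)]

theorem no_twist [Nontrivial D] {g m d : ℕ} (hg : 0 < g) (hm : 1 < m) (hd : g * m = d)
    (hord : orderOf (A.L B.a) = 2 ^ d - 1) {b : D} (hb0 : b ≠ 0)
    (hb : ∀ Z ∈ B.K, A.M b (Z A.one) = (Z ^ 2 ^ g : AddMonoid.End D) b) : False := by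
  set Aa := A.L B.a with hAa
  have hσK : ∀ Z ∈ B.K, Z ^ 2 ^ g ∈ B.K := fun Z hZ => Subring.pow_mem _ hZ _
  have hiter : ∀ (i : ℕ) (Z : AddMonoid.End D), (fun Z : AddMonoid.End D => Z ^ 2 ^ g)^[i] Z = Z ^ 2 ^ (g * i) := by
    intro i Z
    induction i with
    | zero => simp
    | succ i ih => rw [Function.iterate_succ_apply', ih, ← pow_mul, ← pow_add, Nat.mul_succ]
  have hN1 : 0 < 2 ^ d - 1 := by
    have : 1 < 2 ^ d := Nat.one_lt_pow (by rw [← hd]; positivity) (by norm_num)
    omega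
  have hAN : Aa ^ (2 ^ d - 1) = 1 := hord ▸ pow_orderOf_eq_one _
  have hAd : Aa ^ 2 ^ d = Aa := by
    conv_lhs => rw [show 2 ^ d = 2 ^ d - 1 + 1 by omega]
    rw [pow_succ, hAN, _root_.one_mul]
  have hunit : IsUnit Aa := IsUnit.of_pow_eq_one hAN (by omega)
  -- the power of `b` centralised by the field
  set c := A.pw b m with hc
  have hcK : A.L c ∈ B.K := by
    refine B.mem_of_fixed ?_
    have := B.twist_pow hσK hb m B.ha
    rw [hiter, hd, hAd, A.L_at_one] at this
    exact this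
  have hc0 : A.L c ≠ 0 := fun e => by
    rw [hc, A.L_pw] at e
    have h2 := (isUnit_L (A := A) hb0).pow m
    rw [e, isUnit_zero_iff] at h2
    obtain ⟨x, hx⟩ := exists_ne (0 : D)
    exact hx (DFunLike.congr_fun h2 x).symm
  obtain ⟨s, hs⟩ := (B.gen _ hcK).resolve_left hc0
  have hfix : (A.L c) ^ 2 ^ g = A.L c := by
    have h1 : ((A.L c) ^ 2 ^ g : AddMonoid.End D) b = A.L c b := by
      rw [← hb _ hcK, A.L_at_one, hc, ← A.pw_succ, A.pw_succ']
      rfl
    have := B.inj (sub_mem (hσK _ hcK) hcK) hb0 (by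
      show ((A.L c) ^ 2 ^ g : AddMonoid.End D) b - A.L c b = 0
      rw [h1, sub_self])
    exact sub_eq_zero.mp this
  set E := ∑ i ∈ Finset.range m, 2 ^ (g * i) with hE
  set N' := 2 ^ g - 1 with hN'
  have hg1 : 1 ≤ 2 ^ g := Nat.one_le_two_pow
  have hEN : E * N' + 1 = 2 ^ d := by
    have h := geom_sum_mul_add (x := N') m
    rw [show N' + 1 = 2 ^ g by omega] at h
    rw [← hd, pow_mul, ← h, hE]
    simp_rw [pow_mul]
  have hN'0 : 0 < N' := by
    have : 1 < 2 ^ g := Nat.one_lt_pow hg.ne' (by norm_num)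
    omega
  have hEs : E ∣ s := by
    have h1 : Aa ^ (s * N') * Aa ^ s = Aa ^ s := by
      rw [← pow_add, show s * N' + s = s * 2 ^ g by rw [← Nat.mul_succ]; congr 1; omega, pow_mul, hs, hfix]
    have h2 : Aa ^ (s * N') = 1 := (hunit.pow s).mul_right_cancel (by rw [h1, _root_.one_mul])
    have h3 := orderOf_dvd_of_pow_eq_one h2
    rw [hord, show 2 ^ d - 1 = E * N' by omega] at h3
    exact Nat.dvd_of_mul_dvd_mul_right hN'0 h3
  obtain ⟨t, ht⟩ := hEs
  set u := 2 ^ (g - 1) * (t * (N' - 1)) with hu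
  have h2u : 2 * u = (N' + 1) * (t * (N' - 1)) := by
    rw [hu, ← mul_assoc, ← pow_succ', show g - 1 + 1 = g by omega, show N' + 1 = 2 ^ g by omega]
  set w := u * (1 + 2 ^ g) with hw
  have hdvd : 2 ^ d - 1 ∣ w * E + s := by
    rw [show 2 ^ d - 1 = E * N' by omega, ht, show w * E + E * t = E * (w + t) by ring]
    refine Nat.mul_dvd_mul_left E ?_
    obtain ⟨r, hr⟩ : ∃ r, N' = r + 1 := ⟨N' - 1, by omega⟩
    refine ⟨u + N' * t, ?_⟩
    rw [hw, show 1 + 2 ^ g = N' + 2 by omega, show u * (N' + 2) = N' * u + 2 * u by ring, h2u, hr,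
      Nat.add_sub_cancel]
    ring
  -- the twisted element of finite order
  set z := A.M (A.pw B.a u) (A.M b (A.pw B.a u)) with hz
  have hLz : A.L z = Aa ^ u * A.L b * Aa ^ u := by rw [hz, ← A.hua, A.L_pw]
  set v : ℕ → D := fun j => (A.L z ^ j : AddMonoid.End D) A.one with hv
  have hvj : ∀ j, v j = (A.R b ^ j : AddMonoid.End D)
      ((Aa ^ (w * ∑ i ∈ Finset.range j, 2 ^ (g * i))) A.one) := by
    intro j
    induction j with
    | zero => simp [hv]
    | succ j ih =>
      show (A.L z ^ (j + 1) : AddMonoid.End D) A.one = _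
      rw [pow_succ', L_mul_apply]
      change A.L z (v j) = _
      rw [ih, hLz, L_mul_apply, L_mul_apply, B.K_R b j (B.pow_mem u) (B.pow_mem _),
        B.twist_R hσK hb j (Subring.mul_mem _ (B.pow_mem u) (B.pow_mem _)),
        B.K_R b (j + 1) (B.pow_mem u) (hσK _ (Subring.mul_mem _ (B.pow_mem u) (B.pow_mem _))),
        ← pow_add, ← pow_mul, ← pow_add]
      congr 3
      have hS : ∑ i ∈ Finset.range (j + 1), 2 ^ (g * i) = 1 + 2 ^ g * ∑ i ∈ Finset.range j, 2 ^ (g * i) := by
        rw [Finset.sum_range_succ', Finset.mul_sum, add_comm]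
        simp [Nat.mul_succ, pow_add, mul_comm]
      rw [hS, hw]
      ring
  have hvW : ∀ j, v j = (Aa ^ (w * ∑ i ∈ Finset.range j, 2 ^ (g * i))) (A.pw b j) := fun j => by
    rw [hvj, B.apply_R b j (B.pow_mem _)]
  have hzm : A.L z ^ m = 1 := by
    rw [← A.L_pw, show A.pw z m = A.one from ?_, A.L_one]
    show v m = A.one
    rw [hvW, ← hc]
    conv_lhs => rw [show c = A.L c A.one from (A.L_at_one c).symm, ← hs]
    rw [← L_mul_apply, ← pow_add]
    obtain ⟨r, hr⟩ := hdvd
    rw [hr, pow_mul, hAN, one_pow]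
    rfl
  have hev : ∀ j, A.R B.a (v j) = (Aa ^ 2 ^ (g * j)) (v j) := by
    intro j
    rw [hvW]
    set W := Aa ^ (w * ∑ i ∈ Finset.range j, 2 ^ (g * i)) with hWdef
    have h1 := DFunLike.congr_fun (B.commute_R (B.pow_mem (w * ∑ i ∈ Finset.range j, 2 ^ (g * i))) B.ha).eq (A.pw b j)
    rw [A.L_at_one] at h1
    simp only [L_mul_apply] at h1
    have h2 := B.twist_pow hσK hb j B.ha
    rw [hiter, A.L_at_one] at h2
    rw [hWdef]
    refine h1.symm.trans ?_
    rw [R_apply, h2, ← L_mul_apply, ← L_mul_apply, ← pow_add, ← pow_add, add_comm]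
  have hA1 : ∀ j, 0 < j → j < m → Aa ^ 2 ^ (g * j) ≠ Aa := by
    intro j hj0 hjm e
    have hlt : g * j < d := by rw [← hd]; exact Nat.mul_lt_mul_of_pos_left hjm hg
    have h2 : Aa ^ (2 ^ (g * j) - 1) = 1 := hunit.mul_right_cancel (by
      rw [← pow_succ, Nat.sub_add_cancel Nat.one_le_two_pow, e, _root_.one_mul])
    have h3 := orderOf_dvd_of_pow_eq_one h2
    rw [hord] at h3
    have h4 := Nat.le_of_dvd (by
      have : 1 < 2 ^ (g * j) := Nat.one_lt_pow (by positivity) (by norm_num)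
      omega) h3
    have h5 : 2 ^ (g * j) < 2 ^ d := Nat.pow_lt_pow_right (by norm_num) hlt
    omega
  have hone : A.R B.a A.one = Aa A.one := by rw [R_apply, A.one_mul, A.L_at_one]
  have hone0 : A.one ≠ 0 := fun e => by
    obtain ⟨x, hx⟩ := exists_ne (0 : D)
    exact hx (by rw [← A.one_mul x, e, map_zero]; rfl)
  have hz1 : z - A.one ≠ 0 := fun e => by
    rw [sub_eq_zero] at e
    have hv1 : v 1 = A.one := by simp [hv, e, A.L_at_one]
    have := hev 1
    rw [hv1, hone, Nat.mul_one] at this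
    refine hA1 1 one_pos hm ?_
    rw [Nat.mul_one]
    exact (sub_eq_zero.mp (B.inj (sub_mem B.ha (B.pow_mem _)) hone0 (by
      show Aa A.one - (Aa ^ 2 ^ g) A.one = 0
      rw [this, sub_self]))).symm
  have hsum : (∑ i ∈ Finset.range m, v i) = 0 := by
    obtain ⟨z', h1, -⟩ := A.exists_inv hz1
    have h2 : A.L (z - A.one) = A.L z - 1 := by rw [← A.L_one]; exact A.M.map_sub _ _
    have h3 : (∑ i ∈ Finset.range m, A.L z ^ i) = 0 := by
      have := mul_geom_sum (A.L z) m
      rw [hzm, sub_self, ← h2] at this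
      have h4 := congrArg (A.L z' * ·) this
      simp only [← mul_assoc, h1, _root_.one_mul, mul_zero] at h4
      exact h4
    have := congrArg (fun f : AddMonoid.End D => f A.one) h3
    exact (AddMonoidHom.finsetSum_apply _ _ _).symm.trans this
  have hT : ∀ s : Finset ℕ, 0 ∉ s → (∀ j ∈ s, j < m) →
      ∃ T : AddMonoid.End D, (∀ j ∈ s, T (v j) = 0) ∧ (∃ W ∈ B.K, W ≠ 0 ∧ T A.one = W A.one) ∧
        Commute T (A.R B.a) ∧ ∀ k ∈ B.K, Commute T k := by
    intro s
    induction s using Finset.induction with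
    | empty =>
      intro _ _
      refine ⟨1, by simp, ⟨1, B.K.one_mem, fun e => ?_, rfl⟩, Commute.one_left _, fun k _ => Commute.one_left _⟩
      exact hone0 (DFunLike.congr_fun e A.one)
    | @insert j s hjs ih =>
      intro h0 hlt
      obtain ⟨T, hT0, ⟨W, hW, hW0, hTW⟩, hTR, hTK⟩ :=
        ih (fun h => h0 (Finset.mem_insert_of_mem h)) fun i hi => hlt i (Finset.mem_insert_of_mem hi)
      set Aj := Aa ^ 2 ^ (g * j) with hAj
      have hRj : Commute (A.R B.a) Aj := by
        have := B.commute_R (B.pow_mem (2 ^ (g * j))) B.ha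
        rw [A.L_at_one] at this
        exact this.symm
      have hkR : ∀ k ∈ B.K, Commute (A.R B.a) k := fun k hk => by
        have := B.commute_R hk B.ha
        rw [A.L_at_one] at this
        exact this.symm
      refine ⟨(A.R B.a - Aj) * T, fun i hi => ?_, ⟨(Aa - Aj) * W, ?_, ?_, ?_⟩, ?_, fun k hk => ?_⟩
      · rcases Finset.mem_insert.mp hi with rfl | hi
        · rw [← ((hTR.sub_right (hTK _ (B.pow_mem _)))).eq, L_mul_apply]
          show T (A.R B.a (v i) - Aj (v i)) = 0
          rw [hev, sub_self, map_zero]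
        · rw [L_mul_apply, hT0 i hi, map_zero]
      · exact Subring.mul_mem _ (sub_mem B.ha (B.pow_mem _)) hW
      · intro e
        have h1 := congrArg (fun f : AddMonoid.End D => f A.one) e
        simp only [L_mul_apply] at h1
        have hW1 : W A.one ≠ 0 := fun h => hW0 (B.inj hW hone0 h)
        have h5 := B.inj (sub_mem B.ha (B.pow_mem (2 ^ (g * j)))) hW1 h1
        exact hA1 j (Nat.pos_of_ne_zero fun e => h0 (by simp [e])) (hlt j (Finset.mem_insert_self _ _))
          (sub_eq_zero.mp h5).symm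
      · rw [L_mul_apply, hTW, ← L_mul_apply,
          ((hkR W hW).sub_left (B.comm _ (B.pow_mem _) _ hW)).eq, B.comm (Aa - Aj) (sub_mem B.ha (B.pow_mem _)) W hW,
          L_mul_apply, L_mul_apply]
        congr 1
        show A.R B.a A.one - Aj A.one = Aa A.one - Aj A.one
        rw [hone]
      · exact ((Commute.refl _).sub_left hRj.symm).mul_left hTR
      · exact ((hkR k hk).sub_left (B.comm _ (B.pow_mem _) _ hk)).mul_left (hTK k hk)
  obtain ⟨T, hT0, ⟨W, hW, hW0, hTW⟩, -, -⟩ := hT ((Finset.range m).erase 0) (by simp)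
    (fun j hj => Finset.mem_range.mp (Finset.mem_of_mem_erase hj))
  have h := congrArg T hsum
  rw [map_sum, map_zero, ← Finset.add_sum_erase _ _ (Finset.mem_range.mpr (by omega : 0 < m)),
    Finset.sum_eq_zero hT0, add_zero, show v 0 = A.one by simp [hv], hTW] at h
  exact hW0 (B.inj hW hone0 h)

theorem all_mem [Nontrivial D] (x : D) : A.L x ∈ B.K := by
  classical
  by_contra hx
  haveI : Finite (AddMonoid.End D) := Finite.of_injective _ DFunLike.coe_injective
  haveI : Fintype B.K := Fintype.ofFinite _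
  letI : CommRing B.K := { B.K.toRing with mul_comm := fun x y => Subtype.ext (B.comm _ x.2 _ y.2) }
  have hone0 : A.one ≠ 0 := fun e => by
    obtain ⟨x, hx⟩ := exists_ne (0 : D)
    exact hx (by rw [← A.one_mul x, e, map_zero]; rfl)
  haveI : Nontrivial B.K := ⟨⟨1, 0, fun e => hone0 (DFunLike.congr_fun (congrArg Subtype.val e) A.one)⟩⟩
  haveI : NoZeroDivisors B.K := ⟨fun {x y} e => by
    by_contra hxy
    push Not at hxy
    have e' : (x : AddMonoid.End D) * y = 0 := congrArg Subtype.val e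
    have hy1 : (y : AddMonoid.End D) A.one ≠ 0 := fun h => hxy.2 (Subtype.ext (B.inj y.2 hone0 h))
    exact hxy.1 (Subtype.ext (B.inj x.2 hy1 (DFunLike.congr_fun e' A.one)))⟩
  haveI : IsDomain B.K := NoZeroDivisors.to_isDomain B.K
  letI : Field B.K := Fintype.fieldOfDomain B.K
  set aK : B.K := ⟨A.L B.a, B.ha⟩ with haK
  set q := Fintype.card B.K with hq
  have haq : A.R B.a ^ q = A.R B.a := by
    rw [← A.R_pw, show A.pw B.a q = B.a from A.L_inj (by
      rw [A.L_pw]; exact congrArg Subtype.val (FiniteField.pow_card aK))]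
  -- the commutative ring generated by the field and the right multiplication
  set S : Set (AddMonoid.End D) := insert (A.R B.a) (B.K : Set (AddMonoid.End D)) with hS
  have hRk : ∀ k ∈ B.K, k * A.R B.a = A.R B.a * k := fun k hk => by
    have := (B.commute_R hk B.ha).eq
    rwa [A.L_at_one] at this
  have hSc : ∀ x ∈ S, ∀ y ∈ S, x * y = y * x := by
    rintro x (rfl | hx) y (rfl | hy)
    · rfl
    · exact (hRk y hy).symm
    · exact hRk x hx
    · exact B.comm x hx y hy
  set C := Subring.closure S with hC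
  letI : CommRing C := Subring.closureCommRingOfComm hSc
  let f : B.K →+* C :=
    { toFun := fun k => ⟨k, Subring.subset_closure (Or.inr k.2)⟩
      map_one' := rfl
      map_mul' := fun _ _ => rfl
      map_zero' := rfl
      map_add' := fun _ _ => rfl }
  set r : C := ⟨A.R B.a, Subring.subset_closure (Or.inl rfl)⟩ with hr
  have hprod : ∏ y : B.K, (r - f y) = 0 := by
    have hP : (Polynomial.X ^ q - Polynomial.X : Polynomial B.K) =
        ∏ y : B.K, (Polynomial.X - Polynomial.C y) := by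
      have hmon : (Polynomial.X ^ q - Polynomial.X : Polynomial B.K).Monic :=
        Polynomial.monic_X_pow_sub (by
          rw [Polynomial.degree_X]; exact_mod_cast Fintype.one_lt_card)
      have := Polynomial.prod_multiset_X_sub_C_of_monic_of_roots_card_eq hmon (by
        rw [FiniteField.roots_X_pow_card_sub_X, FiniteField.X_pow_card_sub_X_natDegree_eq _ Fintype.one_lt_card]
        rfl)
      rw [FiniteField.roots_X_pow_card_sub_X] at this
      exact this.symm
    have := congrArg (Polynomial.eval₂ f r) hP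
    rw [Polynomial.eval₂_sub, Polynomial.eval₂_X_pow, Polynomial.eval₂_X, Polynomial.eval₂_finsetProd] at this
    simp only [Polynomial.eval₂_sub, Polynomial.eval₂_X, Polynomial.eval₂_C] at this
    rw [← this, sub_eq_zero]
    exact Subtype.ext haq
  have hex : ∃ y : B.K, y ≠ aK ∧ ∃ b : D, b ≠ 0 ∧ A.R B.a b = (y : AddMonoid.End D) b := by
    by_contra hall
    push Not at hall
    have hinj : ∀ s : Finset B.K, aK ∉ s → ∀ v : D, ((∏ y ∈ s, (r - f y) : C) : AddMonoid.End D) v = 0 → v = 0 := by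
      intro s
      induction s using Finset.induction with
      | empty => intro _ v hv; simpa using hv
      | @insert y s hys ih =>
        intro hs v hv
        rw [Finset.prod_insert hys, mul_comm] at hv
        have h1 : (r - f y : C).1 v = 0 := ih (fun h => hs (Finset.mem_insert_of_mem h)) _ hv
        by_contra hv0
        exact hall y (fun e => hs (by simp [e])) v hv0 (sub_eq_zero.mp h1)
    rw [← Finset.mul_prod_erase _ _ (Finset.mem_univ aK), mul_comm] at hprod
    have h2 : ((∏ y ∈ Finset.univ.erase aK, (r - f y) : C) : AddMonoid.End D) (((r - f aK : C) : AddMonoid.End D) x) = 0 :=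
      DFunLike.congr_fun (congrArg Subtype.val hprod) x
    exact hx (B.mem_of_fixed (sub_eq_zero.mp (hinj _ (Finset.notMem_erase _ _) _ h2)))
  obtain ⟨y, hy, b, hb0, hb⟩ := hex
  have hpow : ∀ k : ℕ, (A.R B.a ^ k : AddMonoid.End D) b = ((y : AddMonoid.End D) ^ k) b := by
    intro k
    induction k with
    | zero => rfl
    | succ k ih =>
      rw [pow_succ', L_mul_apply, ih, ← L_mul_apply, ← hRk _ (Subring.pow_mem _ y.2 k), L_mul_apply, hb,
        ← L_mul_apply, ← pow_succ]
  have hσex : ∀ Z : B.K, ∃ W : B.K, A.R ((Z : AddMonoid.End D) A.one) b = (W : AddMonoid.End D) b := by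
    intro Z
    rcases B.gen Z Z.2 with h | ⟨n, hn⟩
    · exact ⟨0, by rw [h]; show A.M b 0 = 0; rw [map_zero]⟩
    refine ⟨y ^ n, ?_⟩
    rw [← hn]
    show A.R (A.pw B.a n) b = _
    rw [A.R_pw, SubmonoidClass.coe_pow]
    exact hpow n
  choose σ hσ using hσex
  have huniq : ∀ {W W' : B.K}, (W : AddMonoid.End D) b = (W' : AddMonoid.End D) b → W = W' := fun {W W'} h =>
    sub_eq_zero.mp (Subtype.ext (B.inj (W - W').2 hb0 (by
      show (W : AddMonoid.End D) b - (W' : AddMonoid.End D) b = 0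
      rw [h, sub_self])))
  let σh : B.K →+* B.K :=
    { toFun := σ
      map_one' := huniq (by rw [← hσ]; exact A.mul_one b)
      map_zero' := huniq (by rw [← hσ]; exact map_zero (A.M b))
      map_add' := fun Z Z' => huniq (by rw [← hσ]; exact (map_add (A.M b) _ _).trans (congrArg₂ (· + ·) (hσ Z) (hσ Z')))
      map_mul' := fun Z Z' => huniq (by
        rw [← hσ]
        show A.R (((Z : AddMonoid.End D) * Z') A.one) b = _
        rw [B.R_mul Z.2 Z'.2, L_mul_apply, hσ Z, ← L_mul_apply, ← (B.commute_R (σ Z).2 Z'.2).eq, L_mul_apply, hσ Z']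
        rfl) }
  haveI : CharP B.K 2 := CharTwo.of_one_ne_zero_of_two_eq_zero one_ne_zero (by
    rw [← one_add_one_eq_two]; exact Subtype.ext (A.end_add_self _))
  letI : Algebra (ZMod 2) B.K := ZMod.algebra _ 2
  let σa : B.K →ₐ[ZMod 2] B.K :=
    { σh with commutes' := fun c => RingHom.congr_fun (Subsingleton.elim (σh.comp (algebraMap (ZMod 2) B.K)) (algebraMap _ _)) c }
  obtain ⟨⟨n, hn⟩, hnσ⟩ := (FiniteField.bijective_frobeniusAlgHom_pow (ZMod 2) B.K).2 σa
  set d := Module.finrank (ZMod 2) B.K with hd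
  have hcard : q = 2 ^ d := by
    rw [hq, Module.card_eq_pow_finrank (K := ZMod 2), ZMod.card]
  have hfrob : ∀ Z : B.K, σ Z = Z ^ 2 ^ n := by
    intro Z
    have h1 : ∀ k : ℕ, (FiniteField.frobeniusAlgHom (ZMod 2) B.K ^ k) Z = Z ^ 2 ^ k := by
      intro k
      induction k with
      | zero => simp
      | succ k ih =>
        rw [pow_succ' (FiniteField.frobeniusAlgHom (ZMod 2) B.K)]
        show FiniteField.frobeniusAlgHom (ZMod 2) B.K ((FiniteField.frobeniusAlgHom (ZMod 2) B.K ^ k) Z) = _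
        rw [ih, FiniteField.frobeniusAlgHom_apply, ZMod.card, ← pow_mul, ← pow_succ]
    exact (DFunLike.congr_fun hnσ.symm Z).trans (h1 n)
  have hn0 : n ≠ 0 := fun e => by
    refine hy (huniq ?_)
    have h1 := hσ aK
    rw [hfrob, e, pow_zero, pow_one] at h1
    rw [haK] at h1
    simp only [A.L_at_one] at h1
    exact hb.symm.trans h1
  set g := Nat.gcd n d with hg
  have hg0 : 0 < g := Nat.gcd_pos_of_pos_left _ (Nat.pos_of_ne_zero hn0)
  have hgd : g < d := lt_of_le_of_lt (Nat.le_of_dvd (Nat.pos_of_ne_zero hn0) (Nat.gcd_dvd_left n d)) hn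
  obtain ⟨j, -, hj⟩ := Nat.exists_mul_mod_eq_gcd hgd
  have hgm : g * (d / g) = d := Nat.mul_div_cancel' (Nat.gcd_dvd_right n d)
  have hm : 1 < d / g := by
    by_contra h
    have : g * (d / g) ≤ g * 1 := Nat.mul_le_mul_left _ (not_lt.mp h)
    omega
  have hord : orderOf (A.L B.a) = 2 ^ d - 1 := by
    have ha0 : aK ≠ 0 := fun e => hx (B.max _ ⟨x, rfl⟩ (by
      have e' : A.L B.a = 0 := congrArg Subtype.val e
      rw [e', mul_zero, zero_mul]))
    set au : (B.K)ˣ := Units.mk0 aK ha0 with hau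
    have hgenu : ∀ v : (B.K)ˣ, v ∈ Subgroup.zpowers au := fun v => by
      rcases B.gen _ (v : B.K).2 with h | ⟨k, hk⟩
      · exact absurd (Subtype.ext h) v.ne_zero
      · refine ⟨(k : ℤ), Units.ext (Subtype.ext ?_)⟩
        simp only [zpow_natCast, Units.val_pow_eq_pow_val, SubmonoidClass.coe_pow]
        exact hk
    have h1 := orderOf_eq_card_of_forall_mem_zpowers hgenu
    rw [Nat.card_units, Nat.card_eq_fintype_card, ← hq, hcard, ← orderOf_units, Units.val_mk0,
      ← orderOf_injective B.K.subtype.toMonoidHom Subtype.coe_injective] at h1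
    exact h1
  refine B.no_twist hg0 hm hgm hord (b := A.pw b j) ?_ ?_
  · intro e
    obtain ⟨b', h1, h2⟩ := A.exists_inv hb0
    have hu : IsUnit (A.L b ^ j) := (IsUnit.pow j ⟨⟨A.L b, A.L b', h2, h1⟩, rfl⟩)
    rw [← A.L_pw, e, A.L_zero, isUnit_zero_iff] at hu
    exact hone0 (DFunLike.congr_fun hu A.one).symm
  intro Z hZ
  have hσK : ∀ Z ∈ B.K, Z ^ 2 ^ n ∈ B.K := fun Z hZ => Subring.pow_mem _ hZ _
  have hb' : ∀ Z ∈ B.K, A.M b (Z A.one) = (Z ^ 2 ^ n : AddMonoid.End D) b := fun Z hZ => by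
    have h1 := hσ ⟨Z, hZ⟩
    rw [hfrob] at h1
    exact h1
  rw [B.twist_pow hσK hb' j hZ]
  congr 1
  have hit : ∀ (i : ℕ), (fun Z : AddMonoid.End D => Z ^ 2 ^ n)^[i] Z = Z ^ 2 ^ (n * i) := fun i => by
    induction i with
    | zero => simp
    | succ i ih => rw [Function.iterate_succ_apply', ih, ← pow_mul, ← pow_add, Nat.mul_succ]
  rw [hit]
  have hper : ∀ k : ℕ, (⟨Z, hZ⟩ : B.K) ^ 2 ^ (d * k) = ⟨Z, hZ⟩ := fun k => by
    rw [pow_mul, ← hcard]; exact FiniteField.pow_card_pow k _
  have h3 := congrArg Subtype.val (congrArg (· ^ 2 ^ g) (hper (n * j / d)))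
  simp only [SubmonoidClass.coe_pow, ← pow_mul, ← pow_add] at h3
  rw [← h3]
  congr 2
  have := Nat.div_add_mod (n * j) d
  omega

end Base

theorem comm_assoc [Nontrivial D] (A : IPAlg D) :
    (∀ a b, A.M a b = A.M b a) ∧ ∀ a b c, A.M (A.M a b) c = A.M a (A.M b c) := by
  obtain ⟨B⟩ := A.exists_base
  refine ⟨fun a b => ?_, fun a b c => ?_⟩
  · have := congrArg (fun f : AddMonoid.End D => f A.one) (B.comm _ (B.all_mem a) _ (B.all_mem b))
    simpa [L_mul_apply, L_at_one, L_apply, A.mul_one] using this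
  · have h := B.exists_vec (Subring.mul_mem _ (B.all_mem a) (B.all_mem b))
    have := DFunLike.congr_fun h c
    simp only [L_mul_apply, L_at_one] at this
    exact this

end IPAlg

end CfsgLib.TISpecial
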