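import Cfsg.Agent.Lib.Basic
import Cfsg.Agent.Lib.Elementary
import Cfsg.Prelude.Def_Transfer
import Cfsg.Prelude.Def_Amalgam
import Mathlib

/-!
A trivial-intersection elementary abelian 2-subgroup which is maximal abelian normal in its
normalizer: the radical has class two modulo it.
-/

set_option autoImplicit false

namespace CfsgLib.TISpecial

open Cfsg
open scoped commutatorElement

universe u

variable {G : Type u} [Group G]

/-- The conjugate subgroup. -/
def cj (x : G) (X : Subgroup G) : Subgroup G := X.map (MulAut.conj x).toMonoidHom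

theorem conj_mem_cj (x : G) {X : Subgroup G} {y : G} (h : y ∈ X) : x * y * x⁻¹ ∈ cj x X := ⟨y, h, rfl⟩

theorem mem_cj {x : G} {X : Subgroup G} {y : G} : y ∈ cj x X ↔ x⁻¹ * y * x ∈ X := by
  constructor
  · rintro ⟨z, hz, rfl⟩
    show x⁻¹ * (x * z * x⁻¹) * x ∈ X
    simpa [mul_assoc] using hz
  · intro h
    have := conj_mem_cj x h
    simpa [mul_assoc] using this

theorem cj_one (X : Subgroup G) : cj 1 X = X := by ext y; simp [mem_cj]

theorem cj_cj (a b : G) (X : Subgroup G) : cj a (cj b X) = cj (a * b) X := by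
  ext y
  simp [mem_cj, mul_assoc]

theorem cj_mono (x : G) {X Y : Subgroup G} (h : X ≤ Y) : cj x X ≤ cj x Y := Subgroup.map_mono h

theorem card_cj (x : G) (X : Subgroup G) : Nat.card (cj x X) = Nat.card X :=
  Subgroup.card_map_of_injective (MulEquiv.injective (MulAut.conj x))

theorem cj_eq_self_iff [Finite G] {x : G} {X : Subgroup G} : cj x X = X ↔ x ∈ Subgroup.normalizer (X : Set G) := by
  constructor
  · intro h
    rw [Subgroup.mem_normalizer_iff]
    intro y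
    constructor
    · exact fun hy => h.le (conj_mem_cj x hy)
    · intro hy
      rw [← h, mem_cj] at hy
      simpa [mul_assoc] using hy
  · intro h
    refine Subgroup.eq_of_le_of_card_ge ?_ (card_cj x X).ge
    rintro _ ⟨y, hy, rfl⟩
    exact (Subgroup.mem_normalizer_iff.mp h y).mp hy

/-- The largest normal 2-subgroup of the normalizer. -/
def Qof (X : Subgroup G) : Subgroup G :=
  (Cfsg.pCore 2 ↥(Subgroup.normalizer (X : Set G))).map (Subgroup.normalizer (X : Set G)).subtype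

/-- The centralizer of `X` in that subgroup. -/
def Pof (X : Subgroup G) : Subgroup G := Qof X ⊓ Subgroup.centralizer (X : Set G)

theorem Qof_le (X : Subgroup G) : Qof X ≤ Subgroup.normalizer (X : Set G) := Subgroup.map_subtype_le _

theorem Qof_conj_mem [Finite G] {X : Subgroup G} {m q : G} (hm : m ∈ Subgroup.normalizer (X : Set G))
    (hq : q ∈ Qof X) : m * q * m⁻¹ ∈ Qof X := by
  obtain ⟨q, hq, rfl⟩ := hq
  haveI : (Cfsg.pCore 2 ↥(Subgroup.normalizer (X : Set G))).Normal :=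
    (CfsgLib.sSup_prop_of_closed_sup
      (fun A : Subgroup ↥(Subgroup.normalizer (X : Set G)) => A.Normal ∧ IsPGroup 2 A)
      ⟨inferInstance, IsPGroup.of_bot⟩ (fun _ _ h₁ h₂ => CfsgLib.pCore_mem_sup 2 h₁ h₂)
      (S := {N | N.Normal ∧ IsPGroup 2 N}) (fun _ h => h)).1
  exact ⟨⟨m, hm⟩ * q * ⟨m, hm⟩⁻¹, Subgroup.Normal.conj_mem inferInstance q hq _, rfl⟩

theorem Pof_le (X : Subgroup G) : Pof X ≤ Subgroup.normalizer (X : Set G) := inf_le_left.trans (Qof_le X)

theorem Pof_conj_mem [Finite G] {X : Subgroup G} {m q : G} (hm : m ∈ Subgroup.normalizer (X : Set G))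
    (hq : q ∈ Pof X) : m * q * m⁻¹ ∈ Pof X := by
  refine ⟨Qof_conj_mem hm hq.1, Subgroup.mem_centralizer_iff.mpr fun v hv => ?_⟩
  have h1 : m⁻¹ * v * m⁻¹⁻¹ ∈ X := (Subgroup.mem_normalizer_iff.mp (inv_mem hm) v).mp hv
  have h2 := Subgroup.mem_centralizer_iff.mp hq.2 _ h1
  calc v * (m * q * m⁻¹) = m * ((m⁻¹ * v * m⁻¹⁻¹) * q) * m⁻¹ := by group
    _ = m * (q * (m⁻¹ * v * m⁻¹⁻¹)) * m⁻¹ := by rw [h2]
    _ = (m * q * m⁻¹) * v := by group

theorem le_Qof [Finite G] {X A : Subgroup G} (hA : A ≤ Subgroup.normalizer (X : Set G)) (hA2 : IsPGroup 2 A)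
    (hn : ∀ m ∈ Subgroup.normalizer (X : Set G), ∀ a ∈ A, m * a * m⁻¹ ∈ A) : A ≤ Qof X := by
  intro a ha
  haveI : (A.subgroupOf (Subgroup.normalizer (X : Set G))).Normal :=
    ⟨fun b hb m => hn m m.2 b hb⟩
  exact ⟨⟨a, hA ha⟩, CfsgLib.le_pCore (hA2.of_equiv (Subgroup.subgroupOfEquivOfLe hA).symm) ha, rfl⟩

theorem isPGroup_Qof [Finite G] (X : Subgroup G) : IsPGroup 2 (Qof X) := (CfsgLib.isPGroup_pCore 2).map _

theorem Qof_cj [Finite G] (x : G) (X : Subgroup G) : Qof (cj x X) = cj x (Qof X) := by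
  have key : ∀ (x : G) (X : Subgroup G), cj x (Qof X) ≤ Qof (cj x X) := by
    intro x X
    refine le_Qof ?_ ((isPGroup_Qof X).map _) ?_
    · rintro _ ⟨q, hq, rfl⟩
      rw [← cj_eq_self_iff]
      show cj (x * q * x⁻¹) (cj x X) = cj x X
      rw [cj_cj, inv_mul_cancel_right, ← cj_cj, cj_eq_self_iff.mpr (Qof_le X hq)]
    · intro m hm a ha
      rw [← cj_eq_self_iff, cj_cj] at hm
      rw [mem_cj] at ha ⊢
      have hm' : x⁻¹ * m * x ∈ Subgroup.normalizer (X : Set G) := by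
        rw [← cj_eq_self_iff, mul_assoc, ← cj_cj, hm, cj_cj, inv_mul_cancel, cj_one]
      have := Qof_conj_mem hm' ha
      simpa [mul_assoc] using this
  refine le_antisymm ?_ (key x X)
  have h := cj_mono x (key x⁻¹ (cj x X))
  rwa [cj_cj, cj_cj, mul_inv_cancel, cj_one, inv_mul_cancel, cj_one] at h

theorem centralizer_cj (x : G) (X : Subgroup G) :
    Subgroup.centralizer (cj x X : Set G) = cj x (Subgroup.centralizer (X : Set G)) := by
  ext y
  rw [mem_cj, Subgroup.mem_centralizer_iff, Subgroup.mem_centralizer_iff]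
  constructor
  · intro h v hv
    have := h _ (conj_mem_cj x hv)
    calc v * (x⁻¹ * y * x) = x⁻¹ * ((x * v * x⁻¹) * y) * x := by group
      _ = x⁻¹ * (y * (x * v * x⁻¹)) * x := by rw [this]
      _ = (x⁻¹ * y * x) * v := by group
  · rintro h _ ⟨v, hv, rfl⟩
    have := h v hv
    show x * v * x⁻¹ * y = y * (x * v * x⁻¹)
    calc x * v * x⁻¹ * y = x * (v * (x⁻¹ * y * x)) * x⁻¹ := by group
      _ = x * ((x⁻¹ * y * x) * v) * x⁻¹ := by rw [this]
      _ = y * (x * v * x⁻¹) := by group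

theorem Pof_cj [Finite G] (x : G) (X : Subgroup G) : Pof (cj x X) = cj x (Pof X) := by
  rw [Pof, Pof, Qof_cj, centralizer_cj]
  exact (Subgroup.map_inf _ _ _ (MulEquiv.injective (MulAut.conj x))).symm

/-- The hypotheses on the subgroup. -/
structure Hyp (V : Subgroup G) : Prop where
  sq : ∀ v ∈ V, v * v = 1
  comm : ∀ v ∈ V, ∀ w ∈ V, v * w = w * v
  cen : ∀ m ∈ Subgroup.normalizer (V : Set G), (∀ q ∈ Qof V, q * m = m * q) → m ∈ Qof V
  max : ∀ A : Subgroup G, V ≤ A → A ≤ Subgroup.normalizer (V : Set G) → (∀ a ∈ A, ∀ b ∈ A, a * b = b * a) →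
    (∀ m ∈ Subgroup.normalizer (V : Set G), ∀ a ∈ A, m * a * m⁻¹ ∈ A) → A = V
  ti : ∀ x : G, cj x V = V ∨ ∀ v ∈ V, v ∈ cj x V → v = 1

/-- A conjugate of `V` different from `V` and inside `P`. -/
def IsLine (V U : Subgroup G) : Prop := (∃ x : G, U = cj x V) ∧ U ≠ V ∧ U ≤ Pof V

namespace Hyp

variable {V : Subgroup G} (h : Hyp V)

include h

theorem inv_eq {v : G} (hv : v ∈ V) : v⁻¹ = v := inv_eq_of_mul_eq_one_right (h.sq v hv)

variable [Finite G]

theorem conj (x : G) : Hyp (cj x V) := by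
  have hN : ∀ {m : G}, m ∈ Subgroup.normalizer (cj x V : Set G) → x⁻¹ * m * x ∈ Subgroup.normalizer (V : Set G) :=
    fun {m} hm => by
      rw [← cj_eq_self_iff, cj_cj] at hm
      rw [← cj_eq_self_iff, mul_assoc, ← cj_cj, hm, cj_cj, inv_mul_cancel, cj_one]
  refine ⟨fun v hv => ?_, fun v hv w hw => ?_, fun m hm hc => ?_, fun A hA hAN hAc hAn => ?_, fun y => ?_⟩
  · obtain ⟨v, hv, rfl⟩ := hv
    rw [← map_mul, h.sq v hv, map_one]
  · obtain ⟨v, hv, rfl⟩ := hv
    obtain ⟨w, hw, rfl⟩ := hw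
    rw [← map_mul, ← map_mul, h.comm v hv w hw]
  · rw [Qof_cj, mem_cj]
    refine h.cen _ (hN hm) fun q hq => ?_
    have := hc _ ((Qof_cj x V).symm ▸ conj_mem_cj x hq)
    calc q * (x⁻¹ * m * x) = x⁻¹ * ((x * q * x⁻¹) * m) * x := by group
      _ = x⁻¹ * (m * (x * q * x⁻¹)) * x := by rw [this]
      _ = x⁻¹ * m * x * q := by group
  · have h1 := h.max (cj x⁻¹ A) (fun v hv => by
        rw [mem_cj, inv_inv]; exact hA (conj_mem_cj x hv)) (fun a ha => by
        rw [mem_cj, inv_inv] at ha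
        have := hN (hAN ha)
        simpa [mul_assoc] using this) (fun a ha b hb => by
        rw [mem_cj, inv_inv] at ha hb
        have h2 := hAc _ ha _ hb
        calc a * b = x⁻¹ * ((x * a * x⁻¹) * (x * b * x⁻¹)) * x := by group
          _ = x⁻¹ * ((x * b * x⁻¹) * (x * a * x⁻¹)) * x := by rw [h2]
          _ = b * a := by group) (fun m hm a ha => by
        rw [mem_cj, inv_inv] at ha ⊢
        have hm' : x * m * x⁻¹ ∈ Subgroup.normalizer (cj x V : Set G) := by
          rw [← cj_eq_self_iff, cj_cj, inv_mul_cancel_right, ← cj_cj, cj_eq_self_iff.mpr hm]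
        have h2 := hAn _ hm' _ ha
        simpa [mul_assoc] using h2)
    have h2 := congrArg (cj x) h1
    rwa [cj_cj, mul_inv_cancel, cj_one] at h2
  · rcases h.ti (x⁻¹ * y * x) with h1 | h1
    · left
      have h2 := congrArg (cj x) h1
      rw [cj_cj] at h2
      rw [cj_cj]
      simpa [mul_assoc] using h2
    · right
      intro v hv hvy
      rw [mem_cj] at hv
      have h2 := h1 _ hv (by
        rw [mem_cj]
        rw [cj_cj, mem_cj] at hvy
        simpa [mul_assoc] using hvy)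
      calc v = x * (x⁻¹ * v * x) * x⁻¹ := by group
        _ = 1 := by rw [h2]; group

theorem eq_of_mem {x y : G} {w : G} (hx : w ∈ cj x V) (hy : w ∈ cj y V) (hw : w ≠ 1) : cj x V = cj y V := by
  rcases (h.conj x).ti (y * x⁻¹) with h1 | h1
  · rw [cj_cj, inv_mul_cancel_right] at h1
    exact h1.symm
  · exact absurd (h1 w hx (by rwa [cj_cj, inv_mul_cancel_right])) hw

theorem mem_normalizer {x v : G} (hv : v ∈ V) (hv1 : v ≠ 1) (hc : x * v = v * x) :
    x ∈ Subgroup.normalizer (V : Set G) := by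
  rw [← cj_eq_self_iff]
  have : v ∈ cj x V := by
    rw [mem_cj, mul_assoc, ← hc, ← mul_assoc, inv_mul_cancel, one_mul]
    exact hv
  exact (h.eq_of_mem this (x := x) (y := 1) ((cj_one V).symm ▸ hv) hv1).trans (cj_one V)

theorem isPGroup : IsPGroup 2 V := fun v => ⟨1, Subtype.ext (by simpa [pow_two] using h.sq v v.2)⟩

theorem le_Q : V ≤ Qof V :=
  le_Qof Subgroup.le_normalizer h.isPGroup fun m hm a ha => (Subgroup.mem_normalizer_iff.mp hm a).mp ha

theorem le_P : V ≤ Pof V := fun v hv =>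
  ⟨h.le_Q hv, Subgroup.mem_centralizer_iff.mpr fun w hw => h.comm w hw v hv⟩

theorem P_comm {p v : G} (hp : p ∈ Pof V) (hv : v ∈ V) : v * p = p * v :=
  Subgroup.mem_centralizer_iff.mp hp.2 v hv

theorem key_commute {U : Subgroup G} (hU : ∃ g, U = cj g V) (hne : U ≠ V) (hUN : U ≤ Subgroup.normalizer (V : Set G))
    {u v : G} (hu : u ∈ U) (hu1 : u ≠ 1) (hv : v ∈ V) (hc : v * u = u * v) {u' : G} (hu' : u' ∈ U) :
    v * u' = u' * v := by
  obtain ⟨g, rfl⟩ := hU
  have hvN := (h.conj g).mem_normalizer hu hu1 hc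
  have h1 : v * u' * v⁻¹ * u'⁻¹ ∈ cj g V := mul_mem ((Subgroup.mem_normalizer_iff.mp hvN u').mp hu') (inv_mem hu')
  have h2 : v * u' * v⁻¹ * u'⁻¹ ∈ V := by
    have := (Subgroup.mem_normalizer_iff.mp (hUN hu') v⁻¹).mp (inv_mem hv)
    have e : v * u' * v⁻¹ * u'⁻¹ = v * (u' * v⁻¹ * u'⁻¹) := by group
    rw [e]
    exact mul_mem hv this
  have h3 : v * u' * v⁻¹ * u'⁻¹ = 1 := by
    by_contra hne1
    exact hne ((h.eq_of_mem h1 ((cj_one V).symm ▸ h2) hne1).trans (cj_one V))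
  calc v * u' = (v * u' * v⁻¹ * u'⁻¹) * (u' * v) := by group
    _ = u' * v := by rw [h3, one_mul]

/-- A conjugate normalizing `V` commutes with it. -/
theorem commute_of_normalizes {U : Subgroup G} (hU : ∃ g, U = cj g V) (hne : U ≠ V)
    (hUN : U ≤ Subgroup.normalizer (V : Set G)) : ∀ u ∈ U, ∀ v ∈ V, v * u = u * v := by
  by_contra hcon
  push Not at hcon
  obtain ⟨u₀, hu₀, v₀, hv₀, hnc⟩ := hcon
  set C := V ⊓ Subgroup.centralizer (U : Set G) with hC
  have hmap : ∀ u ∈ U, v₀ * (u * v₀ * u⁻¹) ∈ C := by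
    intro u hu
    have hV' : u * v₀ * u⁻¹ ∈ V := (Subgroup.mem_normalizer_iff.mp (hUN hu) v₀).mp hv₀
    refine ⟨mul_mem hv₀ hV', Subgroup.mem_centralizer_iff.mpr fun u' hu' => (?_ : u' * _ = _ * u')⟩
    by_cases hu1 : u = 1
    · subst hu1
      simp [h.sq v₀ hv₀]
    obtain ⟨g, rfl⟩ := hU
    refine (h.key_commute ⟨g, rfl⟩ hne hUN hu hu1 (mul_mem hv₀ hV') ?_ hu').symm
    have huu : u * u = 1 := (h.conj g).sq u hu
    have hui : u⁻¹ = u := inv_eq_of_mul_eq_one_right huu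
    rw [hui] at hV' ⊢
    calc v₀ * (u * v₀ * u) * u = v₀ * u * v₀ * (u * u) := by group
      _ = u * ((u * v₀ * u) * v₀) := by rw [huu]; simp only [← mul_assoc, huu, one_mul, mul_one]
      _ = u * (v₀ * (u * v₀ * u)) := by rw [h.comm _ hV' _ hv₀]
  have hinj : Function.Injective (fun u : U => (⟨v₀ * (u * v₀ * (u : G)⁻¹), hmap u u.2⟩ : C)) := by
    intro a b e
    have e' : (a : G) * v₀ * (a : G)⁻¹ = b * v₀ * (b : G)⁻¹ := mul_left_cancel (congrArg Subtype.val e)
    by_contra hab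
    have hne1 : (b : G)⁻¹ * a ≠ 1 := fun e1 => hab (Subtype.ext (inv_mul_eq_one.mp e1).symm)
    refine hnc (h.key_commute hU hne hUN (mul_mem (inv_mem b.2) a.2) hne1 hv₀ ?_ hu₀)
    calc v₀ * ((b : G)⁻¹ * a) = (b : G)⁻¹ * ((b : G) * v₀ * (b : G)⁻¹) * a := by group
      _ = (b : G)⁻¹ * ((a : G) * v₀ * (a : G)⁻¹) * a := by rw [e']
      _ = ((b : G)⁻¹ * a) * v₀ := by group
  have h1 : Nat.card U ≤ Nat.card C := Nat.card_le_card_of_injective _ hinj
  have h2 : Nat.card U = Nat.card V := by obtain ⟨g, rfl⟩ := hU; exact card_cj g V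
  have h3 : C = V := Subgroup.eq_of_le_of_card_ge inf_le_left (h2 ▸ h1)
  exact hnc (Subgroup.mem_centralizer_iff.mp (h3.ge hv₀).2 u₀ hu₀).symm

theorem line_of_le_Q {U : Subgroup G} (hU : ∃ g, U = cj g V) (hne : U ≠ V) (hUQ : U ≤ Qof V) : IsLine V U :=
  ⟨hU, hne, fun u hu => ⟨hUQ hu, Subgroup.mem_centralizer_iff.mpr fun v hv =>
    h.commute_of_normalizes hU hne (hUQ.trans (Qof_le V)) u hu v hv⟩⟩

/-- `Z(P) = V`. -/
theorem center {x : G} (hx : x ∈ Pof V) (hc : ∀ p ∈ Pof V, p * x = x * p) : x ∈ V := by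
  have hA : Pof V ⊓ Subgroup.centralizer (Pof V : Set G) = V := by
    refine h.max _ (le_inf h.le_P fun v hv => Subgroup.mem_centralizer_iff.mpr fun p hp => (h.P_comm hp hv).symm)
      (inf_le_left.trans (Pof_le V)) (fun a ha b hb => Subgroup.mem_centralizer_iff.mp hb.2 a ha.1)
      (fun m hm a ha => ⟨Pof_conj_mem hm ha.1, Subgroup.mem_centralizer_iff.mpr fun p hp => ?_⟩)
    have h1 := Subgroup.mem_centralizer_iff.mp ha.2 _ (Pof_conj_mem (inv_mem hm) hp)
    rw [inv_inv] at h1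
    calc p * (m * a * m⁻¹) = m * ((m⁻¹ * p * m) * a) * m⁻¹ := by group
      _ = m * (a * (m⁻¹ * p * m)) * m⁻¹ := by rw [h1]
      _ = m * a * m⁻¹ * p := by group
  exact hA.le ⟨hx, Subgroup.mem_centralizer_iff.mpr hc⟩

/-- `P' ≤ V`. -/
theorem comm_mem {p q : G} (hp : p ∈ Pof V) (hq : q ∈ Pof V) : ⁅p, q⁆ ∈ V := by
  set P := Pof V with hP
  set D := ⁅P, P⁆ with hD
  have hDP : D ≤ P := Subgroup.commutator_le.mpr fun a ha b hb =>
    mul_mem (mul_mem (mul_mem ha hb) (inv_mem ha)) (inv_mem hb)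
  have hDn : ∀ m ∈ Subgroup.normalizer (V : Set G), ∀ a ∈ D, m * a * m⁻¹ ∈ D := by
    intro m hm a ha
    have hle : D ≤ D.comap (MulAut.conj m).toMonoidHom := Subgroup.commutator_le.mpr fun a ha b hb => by
      show m * ⁅a, b⁆ * m⁻¹ ∈ D
      rw [show m * ⁅a, b⁆ * m⁻¹ = ⁅m * a * m⁻¹, m * b * m⁻¹⁆ by rw [conjugate_commutatorElement]]
      exact Subgroup.commutator_mem_commutator (Pof_conj_mem hm ha) (Pof_conj_mem hm hb)
    exact hle ha
  set J : Set G := {x | x ∈ D ∧ ∀ r ∈ P, ⁅x, r⁆ ∈ V} with hJ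
  -- elements of `J` centralise `D`
  have hJD : ∀ x ∈ J, ∀ d ∈ D, d * x = x * d := by
    intro x hx d hd
    have hle : D ≤ Subgroup.centralizer ({x} : Set G) := Subgroup.commutator_le.mpr fun a ha b hb => by
      have hcv : ∀ r ∈ P, ∃ v ∈ V, r * x * r⁻¹ = v * x := fun r hr => by
        refine ⟨⁅x, r⁆⁻¹, inv_mem (hx.2 r hr), ?_⟩
        rw [commutatorElement_def]; group
      rw [Subgroup.mem_centralizer_singleton_iff]
      obtain ⟨va, hva, ea⟩ := hcv a ha
      obtain ⟨vb, hvb, eb⟩ := hcv b hb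
      have ea' : a⁻¹ * x * a = va⁻¹ * x := by
        have : x = va * (a⁻¹ * x * a) := by
          calc x = a⁻¹ * (a * x * a⁻¹) * a := by group
            _ = a⁻¹ * (va * x) * a := by rw [ea]
            _ = va * (a⁻¹ * x * a) := by
              rw [← mul_assoc, ← h.P_comm (inv_mem ha) hva]; group
        calc a⁻¹ * x * a = va⁻¹ * (va * (a⁻¹ * x * a)) := by group
          _ = va⁻¹ * x := by rw [← this]
      have eb' : b⁻¹ * x * b = vb⁻¹ * x := by
        have : x = vb * (b⁻¹ * x * b) := by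
          calc x = b⁻¹ * (b * x * b⁻¹) * b := by group
            _ = b⁻¹ * (vb * x) * b := by rw [eb]
            _ = vb * (b⁻¹ * x * b) := by
              rw [← mul_assoc, ← h.P_comm (inv_mem hb) hvb]; group
        calc b⁻¹ * x * b = vb⁻¹ * (vb * (b⁻¹ * x * b)) := by group
          _ = vb⁻¹ * x := by rw [← this]
      have push : ∀ {r v : G}, r ∈ P → v ∈ V → r * (v * x) * r⁻¹ = v * (r * x * r⁻¹) := fun {r v} hr hv => by
        rw [← mul_assoc, ← h.P_comm hr hv]; group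
      have e : ⁅a, b⁆ * x * ⁅a, b⁆⁻¹ = x := by
        calc ⁅a, b⁆ * x * ⁅a, b⁆⁻¹ = a * (b * (a⁻¹ * (b⁻¹ * x * b) * a⁻¹⁻¹) * b⁻¹) * a⁻¹ := by
              rw [commutatorElement_def]; group
          _ = a * (b * (vb⁻¹ * (a⁻¹ * x * a⁻¹⁻¹)) * b⁻¹) * a⁻¹ := by rw [eb', push (inv_mem ha) (inv_mem hvb)]
          _ = a * (b * ((vb⁻¹ * va⁻¹) * x) * b⁻¹) * a⁻¹ := by rw [inv_inv, ea']; group
          _ = a * (((vb⁻¹ * va⁻¹) * vb) * x) * a⁻¹ := by
              rw [push hb (mul_mem (inv_mem hvb) (inv_mem hva)), eb]; group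
          _ = (((vb⁻¹ * va⁻¹) * vb) * va) * x := by
              rw [push ha (mul_mem (mul_mem (inv_mem hvb) (inv_mem hva)) hvb), ea]; group
          _ = x := by
              rw [mul_assoc vb⁻¹ va⁻¹ vb, h.comm va⁻¹ (inv_mem hva) vb hvb]
              group
      calc ⁅a, b⁆ * x = (⁅a, b⁆ * x * ⁅a, b⁆⁻¹) * ⁅a, b⁆ := by group
        _ = x * ⁅a, b⁆ := by rw [e]
    exact Subgroup.mem_centralizer_singleton_iff.mp (hle hd)
  -- so `J ⊆ V`
  have hJP : J ⊆ P := fun x hx => hDP hx.1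
  have hJV : J ⊆ (V : Set G) := by
    set A := Subgroup.closure ((V : Set G) ∪ J) with hA
    have hAle : A ≤ P := (Subgroup.closure_le _).mpr (Set.union_subset h.le_P hJP)
    have hcomm : ∀ a ∈ (V : Set G) ∪ J, ∀ b ∈ (V : Set G) ∪ J, a * b = b * a := by
      rintro a (ha | ha) b (hb | hb)
      · exact h.comm a ha b hb
      · exact h.P_comm (hJP hb) ha
      · exact (h.P_comm (hJP ha) hb).symm
      · exact hJD b hb a ha.1
    have hAV := h.max A (fun v hv => Subgroup.subset_closure (Or.inl hv)) (hAle.trans (Pof_le V))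
      (fun a ha b hb => congrArg Subtype.val
        ((Subgroup.isMulCommutative_closure hcomm).is_comm.comm ⟨a, ha⟩ ⟨b, hb⟩))
      (fun m hm => by
        have hle : A ≤ A.comap (MulAut.conj m).toMonoidHom := (Subgroup.closure_le _).mpr (by
          rintro x (hx | hx)
          · exact Subgroup.subset_closure (Or.inl ((Subgroup.mem_normalizer_iff.mp hm x).mp hx))
          · refine Subgroup.subset_closure (Or.inr ⟨hDn m hm x hx.1, fun r hr => ?_⟩)
            have h1 := hx.2 _ (Pof_conj_mem (inv_mem hm) hr)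
            have h2 := (Subgroup.mem_normalizer_iff.mp hm _).mp h1
            rw [conjugate_commutatorElement] at h2
            simpa [mul_assoc] using h2)
        exact fun a ha => hle ha)
    exact fun x hx => hAV.le (Subgroup.subset_closure (Or.inr hx))
  -- nilpotency
  by_contra hpq
  haveI hVn : (V.subgroupOf P).Normal := ⟨fun v hv r => by
    have hv' : (v : G) ∈ V := hv
    show (r : G) * v * (r : G)⁻¹ ∈ V
    rw [← h.P_comm r.2 hv', mul_inv_cancel_right]; exact hv'⟩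
  haveI : (D.subgroupOf P).Normal := ⟨fun d hd r => hDn r (Pof_le V r.2) d hd⟩
  set π := QuotientGroup.mk' (V.subgroupOf P)
  haveI : Group.IsNilpotent P :=
    ((isPGroup_Qof V).to_le inf_le_left).isNilpotent
  haveI : ((D.subgroupOf P).map π).Normal :=
    Subgroup.Normal.map inferInstance π (QuotientGroup.mk'_surjective _)
  have hne : (D.subgroupOf P).map π ≠ ⊥ := fun e => by
    rw [Subgroup.map_eq_bot_iff, QuotientGroup.ker_mk'] at e
    have hmem : ⁅p, q⁆ ∈ D := Subgroup.commutator_mem_commutator hp hq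
    exact hpq (e (show (⟨⁅p, q⁆, hDP hmem⟩ : P) ∈ D.subgroupOf P from hmem))
  obtain ⟨z, hz, hz1⟩ :=
    (Subgroup.bot_or_exists_ne_one _).resolve_left (CfsgLib.inf_center_ne_bot_of_nilpotent hne)
  obtain ⟨⟨x, hxP⟩, hxD, rfl⟩ := hz.1
  refine hz1 ((QuotientGroup.eq_one_iff _).mpr (hJV ⟨hxD, fun r hr => ?_⟩))
  have h1 := Subgroup.mem_center_iff.mp hz.2 (π ⟨r, hr⟩)
  have h2 : π ⁅(⟨x, hxP⟩ : P), ⟨r, hr⟩⁆ = 1 := by
    rw [map_commutatorElement, commutatorElement_eq_one_iff_mul_comm]; exact h1.symm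
  show ⁅(⟨x, hxP⟩ : P), (⟨r, hr⟩ : P)⁆ ∈ V.subgroupOf P
  exact (QuotientGroup.eq_one_iff (N := V.subgroupOf P) _).mp h2

theorem sq_mem {p : G} (hp : p ∈ Pof V) : p * p ∈ V := by
  refine h.center (mul_mem hp hp) fun q hq => ?_
  have hc := h.comm_mem hp hq
  have e1 : p * q = ⁅p, q⁆ * (q * p) := by rw [commutatorElement_def]; group
  calc q * (p * p) = ⁅p, q⁆ * ⁅p, q⁆ * (q * (p * p)) := by rw [h.sq _ hc, one_mul]
    _ = ⁅p, q⁆ * (⁅p, q⁆ * (q * p) * p) := by simp only [mul_assoc]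
    _ = ⁅p, q⁆ * (p * q * p) := by rw [← e1]
    _ = p * (⁅p, q⁆ * (q * p)) := by simp only [← mul_assoc, h.P_comm hp hc]
    _ = p * (p * q) := by rw [← e1]
    _ = p * p * q := by rw [mul_assoc]

theorem comm_symm {p q : G} (hp : p ∈ Pof V) (hq : q ∈ Pof V) : ⁅q, p⁆ = ⁅p, q⁆ := by
  rw [← commutatorElement_inv, h.inv_eq (h.comm_mem hp hq)]

theorem comm_mul {p q r : G} (hp : p ∈ Pof V) (hq : q ∈ Pof V) (hr : r ∈ Pof V) :
    ⁅p * q, r⁆ = ⁅p, r⁆ * ⁅q, r⁆ := by
  have hc := h.comm_mem hq hr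
  have e : ⁅p * q, r⁆ = p * ⁅q, r⁆ * (r * p⁻¹ * r⁻¹) := by simp only [commutatorElement_def]; group
  rw [e, ← h.P_comm hp hc, h.comm _ (h.comm_mem hp hr) _ hc, commutatorElement_def p r]
  group

theorem comm_mul_right {p q r : G} (hp : p ∈ Pof V) (hq : q ∈ Pof V) (hr : r ∈ Pof V) :
    ⁅r, p * q⁆ = ⁅r, p⁆ * ⁅r, q⁆ := by
  rw [h.comm_symm (mul_mem hp hq) hr, h.comm_mul hp hq hr, h.comm_symm hp hr, h.comm_symm hq hr]

end Hyp

end CfsgLib.TISpecial
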