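import Cfsg.Agent.Lib.TISpecial.Pair
import Cfsg.Agent.Lib.TISpecial.AlgebraMain
import Cfsg.Agent.Lib.SL2Pair
import Cfsg.Agent.Lib.RankFrattini

/-!
The Weyl elements, the field and the conclusions.
-/

set_option autoImplicit false
set_option linter.unusedSectionVars false

namespace CfsgLib.TISpecial

open Cfsg
open scoped commutatorElement

universe u

variable {G : Type u} [Group G] {V U U' : Subgroup G}

/-- `y` inverts the map of `b`. -/
def InvPair (V U : Subgroup G) (b y : G) : Prop :=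
  (∀ v ∈ V, ⁅b, ⁅y, v⁆⁆ = v) ∧ ∀ u ∈ U, ⁅y, ⁅b, u⁆⁆ = u

namespace Hyp

variable [Finite G] (h : Hyp V)

include h

theorem comm_inj (hp : Pair V U U') {b u u' : G} (hb : b ∈ U') (hb1 : b ≠ 1) (hu : u ∈ U) (hu' : u' ∈ U)
    (e : ⁅b, u⁆ = ⁅b, u'⁆) : u = u' := by
  have hbP := hp.right.2.2 hb
  have huP := hp.left.2.2 hu
  have hu'P := hp.left.2.2 hu'
  by_contra hne
  refine h.free hp hb hb1 (mul_mem hu hu') (fun e1 => hne ?_) (comm_one_iff.mp ?_)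
  · rw [eq_inv_of_mul_eq_one_left e1, (h.line_hyp hp.left).inv_eq hu']
  · rw [h.comm_mul_right huP hu'P hbP, e, h.sq _ (h.comm_mem hbP hu'P)]

theorem swap (hU : IsLine V U) : IsLine U V := by
  obtain ⟨g, hg⟩ := hU.1
  refine ⟨⟨g⁻¹, ?_⟩, hU.2.1.symm, h.symm_rel hU⟩
  rw [hg, cj_cj, inv_mul_cancel, cj_one]

theorem mem_W (hU : IsLine V U) {w : G} (hw : w ∈ V ⊔ U) : ∃ v ∈ V, ∃ u ∈ U, w = v * u := by
  let S : Subgroup G :=
    { carrier := {x | ∃ v ∈ V, ∃ u ∈ U, x = v * u}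
      one_mem' := ⟨1, one_mem _, 1, one_mem _, (mul_one 1).symm⟩
      mul_mem' := fun {x y} ⟨v, hv, u, hu, hx⟩ ⟨v', hv', u', hu', hy⟩ => ⟨v * v', mul_mem hv hv', u * u', mul_mem hu hu', by
        rw [hx, hy, mul_assoc v, ← mul_assoc u, ← h.line_comm hU hu hv']; group⟩
      inv_mem' := fun {x} ⟨v, hv, u, hu, hx⟩ => ⟨v⁻¹, inv_mem hv, u⁻¹, inv_mem hu, by
        rw [hx, h.line_comm hU hu hv, mul_inv_rev]⟩ }
  exact (sup_le (fun v hv => ⟨v, hv, 1, one_mem _, (mul_one v).symm⟩)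
    (fun u hu => ⟨1, one_mem _, u, hu, (one_mul u).symm⟩) : V ⊔ U ≤ S) hw

theorem decomp_unique (hU : IsLine V U) {v v' u u' : G} (hv : v ∈ V) (hv' : v' ∈ V) (hu : u ∈ U) (hu' : u' ∈ U)
    (e : v * u = v' * u') : v = v' ∧ u = u' := by
  have h1 : v'⁻¹ * v = u' * u⁻¹ := by
    rw [eq_mul_inv_iff_mul_eq, mul_assoc, e, inv_mul_cancel_left]
  have h2 := h.line_inter hU (h1 ▸ mul_mem hu' (inv_mem hu) : v'⁻¹ * v ∈ U) (mul_mem (inv_mem hv') hv)
  have h3 : v = v' := (inv_mul_eq_one.mp h2).symm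
  refine ⟨h3, ?_⟩
  rw [h3] at e
  exact mul_left_cancel e

/-- The lines of `W`. -/
theorem lines (hp : Pair V U U') {w : G} (hw : w ∈ V ⊔ U) (hw1 : w ≠ 1) :
    ∃! X : Subgroup G, (∃ x : G, X = cj x V) ∧ X ≤ V ⊔ U ∧ w ∈ X := by
  obtain ⟨g, hg⟩ := hp.left.1
  refine existsUnique_of_exists_of_unique ?_ ?_
  · obtain ⟨v, hv, u, hu, rfl⟩ := h.mem_W hp.left hw
    by_cases hu1 : u = 1
    · exact ⟨V, ⟨1, (cj_one V).symm⟩, le_sup_left, by rw [hu1, mul_one]; exact hv⟩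
    obtain ⟨b, hb, hbv⟩ := h.exists_comm' hp hu hu1 hv
    refine ⟨cj b U, ⟨b * g, by rw [hg, cj_cj]⟩, ?_, ?_⟩
    · rintro _ ⟨u', hu', rfl⟩
      show b * u' * b⁻¹ ∈ _
      rw [show b * u' * b⁻¹ = ⁅b, u'⁆ * u' by rw [commutatorElement_def]; group]
      exact Subgroup.mul_mem_sup (h.comm_mem (hp.right.2.2 hb) (hp.left.2.2 hu')) hu'
    · have e : v * u = b * u * b⁻¹ := by rw [← hbv, commutatorElement_def]; group
      exact e ▸ conj_mem_cj b hu
  · rintro X Y ⟨⟨x, rfl⟩, -, hx⟩ ⟨⟨y, rfl⟩, -, hy⟩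
    exact h.eq_of_mem hx hy hw1

theorem P_le_normalizer_W (hU : IsLine V U) : Pof V ≤ Subgroup.normalizer ((V ⊔ U : Subgroup G) : Set G) := by
  intro p hp
  rw [← cj_eq_self_iff]
  refine Subgroup.eq_of_le_of_card_ge ?_ (card_cj p _).ge
  refine (Subgroup.map_le_iff_le_comap).mpr (sup_le (fun v hv => ?_) (fun u hu => ?_))
  · show p * v * p⁻¹ ∈ V ⊔ U
    rw [← h.P_comm hp hv, mul_inv_cancel_right]
    exact Subgroup.mem_sup_left hv
  · show p * u * p⁻¹ ∈ V ⊔ U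
    rw [show p * u * p⁻¹ = ⁅p, u⁆ * u by rw [commutatorElement_def]; group]
    exact Subgroup.mul_mem_sup (h.comm_mem hp (hU.2.2 hu)) hu

theorem comm_line_mem (hU : IsLine V U) {y v : G} (hy : y ∈ Pof U) (hv : v ∈ V) : ⁅y, v⁆ ∈ U :=
  (h.line_hyp hU).comm_mem hy (h.symm_rel hU hv)

theorem inv_of_eq (hp : Pair V U U') {b y u0 v0 : G} (hb : b ∈ U') (hb1 : b ≠ 1) (hy : y ∈ Pof U)
    (hv0 : v0 ∈ V) (hv01 : v0 ≠ 1) (hu0 : u0 ∈ U) (e : y * v0 * y⁻¹ = b * u0 * b⁻¹) : InvPair V U b y := by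
  obtain ⟨g, hg⟩ := hp.left.1
  have hbP := hp.right.2.2 hb
  have hline : cj y V = cj b U := by
    rw [hg, cj_cj]
    refine h.eq_of_mem (conj_mem_cj y hv0) ?_ (fun e1 => hv01 ?_)
    · rw [← cj_cj, ← hg, e]; exact conj_mem_cj b hu0
    · calc v0 = y⁻¹ * (y * v0 * y⁻¹) * y := by group
        _ = 1 := by rw [e1]; group
  have hfst : ∀ v ∈ V, ⁅b, ⁅y, v⁆⁆ = v := by
    intro v hv
    obtain ⟨u', hu', e'⟩ : y * v * y⁻¹ ∈ cj b U := hline ▸ conj_mem_cj y hv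
    have e'' : b * u' * b⁻¹ = y * v * y⁻¹ := e'
    have hyu := h.comm_line_mem hp.left hy hv
    have e1 : v * ⁅y, v⁆ = ⁅b, u'⁆ * u' := by
      rw [h.line_comm hp.left hyu hv, commutatorElement_def b]
      calc ⁅y, v⁆ * v = y * v * y⁻¹ := by rw [commutatorElement_def]; group
        _ = b * u' * b⁻¹ := e''.symm
        _ = _ := by group
    obtain ⟨h1, h2⟩ := h.decomp_unique hp.left hv (h.comm_mem hbP (hp.left.2.2 hu')) hyu hu' e1
    rw [h2, ← h1]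
  refine ⟨hfst, fun u hu => h.comm_inj hp hb hb1 (h.comm_line_mem hp.left hy (h.comm_mem hbP (hp.left.2.2 hu))) hu
    (hfst _ (h.comm_mem hbP (hp.left.2.2 hu)))⟩

theorem exists_inv (hp : Pair V U U') {b : G} (hb : b ∈ U') (hb1 : b ≠ 1) :
    ∃ y ∈ Pof U, InvPair V U b y := by
  have hUh := h.line_hyp hp.left
  have hsw := h.swap hp.left
  obtain ⟨U'', hp'⟩ := hUh.exists_pair hsw
  obtain ⟨u, hu, hu1⟩ := h.exists_ne_one hp.left
  have hv : ⁅b, u⁆ ∈ V := h.comm_mem (hp.right.2.2 hb) (hp.left.2.2 hu)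
  have hv1 : ⁅b, u⁆ ≠ 1 := fun e => h.free hp hb hb1 hu hu1 (comm_one_iff.mp e)
  obtain ⟨y, hy, hyv⟩ := hUh.exists_comm' hp' hv hv1 hu
  refine ⟨y, hp'.right.2.2 hy, h.inv_of_eq hp hb hb1 (hp'.right.2.2 hy) hv hv1 hu ?_⟩
  calc y * ⁅b, u⁆ * y⁻¹ = ⁅y, ⁅b, u⁆⁆ * ⁅b, u⁆ := by simp only [commutatorElement_def]; group
    _ = u * ⁅b, u⁆ := by rw [hyv]
    _ = ⁅b, u⁆ * u := (h.line_comm hp.left hu hv).symm
    _ = b * u * b⁻¹ := by rw [commutatorElement_def]; group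

theorem inv_of_move (hp : Pair V U U') {y v : G} (hy : y ∈ Pof U) (hv : v ∈ V) (hne : ⁅y, v⁆ ≠ 1) :
    ∃ b ∈ U', b ≠ 1 ∧ InvPair V U b y := by
  have hv1 : v ≠ 1 := fun e => hne (by rw [e, commutatorElement_one_right])
  have hu := h.comm_line_mem hp.left hy hv
  obtain ⟨b, hb, hbv⟩ := h.exists_comm' hp hu hne hv
  have hb1 : b ≠ 1 := fun e => hv1 (by rw [← hbv, e, commutatorElement_one_left])
  refine ⟨b, hb, hb1, h.inv_of_eq hp hb hb1 hy hv hv1 hu ?_⟩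
  calc y * v * y⁻¹ = ⁅y, v⁆ * v := by rw [commutatorElement_def]; group
    _ = v * ⁅y, v⁆ := (h.line_comm hp.left hu hv).symm
    _ = ⁅b, ⁅y, v⁆⁆ * ⁅y, v⁆ := by rw [hbv]
    _ = b * ⁅y, v⁆ * b⁻¹ := by rw [commutatorElement_def b]; group

theorem weyl (hp : Pair V U U') {b y : G} (hb : b ∈ U') (hy : y ∈ Pof U) (hi : InvPair V U b y) :
    (∀ v ∈ V, (b * y * b) * v * (b * y * b)⁻¹ = ⁅y, v⁆) ∧
      ∀ u ∈ U, (b * y * b) * u * (b * y * b)⁻¹ = ⁅b, u⁆ := by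
  have hUh := h.line_hyp hp.left
  have hbP := hp.right.2.2 hb
  have hbv : ∀ v ∈ V, b * v * b⁻¹ = v := fun v hv => by rw [← h.P_comm hbP hv, mul_inv_cancel_right]
  refine ⟨fun v hv => ?_, fun u hu => ?_⟩
  · have hu := h.comm_line_mem hp.left hy hv
    calc (b * y * b) * v * (b * y * b)⁻¹ = b * (y * (b * v * b⁻¹) * y⁻¹) * b⁻¹ := by group
      _ = b * (⁅y, v⁆ * v) * b⁻¹ := by rw [hbv v hv, commutatorElement_def]; group
      _ = b * (v * ⁅y, v⁆) * b⁻¹ := by rw [h.line_comm hp.left hu hv]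
      _ = (b * v * b⁻¹) * (⁅b, ⁅y, v⁆⁆ * ⁅y, v⁆) := by rw [commutatorElement_def b]; group
      _ = ⁅y, v⁆ := by rw [hbv v hv, hi.1 v hv, ← mul_assoc, h.sq v hv, one_mul]
  · have hx := h.comm_mem hbP (hp.left.2.2 hu)
    calc (b * y * b) * u * (b * y * b)⁻¹ = b * (y * (⁅b, u⁆ * u) * y⁻¹) * b⁻¹ := by rw [commutatorElement_def]; group
      _ = b * ((⁅y, ⁅b, u⁆⁆ * ⁅b, u⁆) * (y * u * y⁻¹)) * b⁻¹ := by rw [commutatorElement_def y]; group
      _ = b * ((u * ⁅b, u⁆) * u) * b⁻¹ := by rw [hi.2 u hu, ← hUh.P_comm hy hu, mul_inv_cancel_right]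
      _ = b * ⁅b, u⁆ * b⁻¹ := by
        rw [← h.line_comm hp.left hu hx, mul_assoc ⁅b, u⁆ u u, hUh.sq u hu, mul_one]
      _ = ⁅b, u⁆ := hbv _ hx

/-- The conjugation of one Weyl element on the translations. -/
theorem inverse_param (hp : Pair V U U') {b0 y0 b : G} (hb0 : b0 ∈ U') (hy0 : y0 ∈ Pof U)
    (hi : InvPair V U b0 y0) (hb : b ∈ U') (hb1 : b ≠ 1) :
    ∃ b' ∈ U', ∀ a ∈ U, ⁅b', ⁅y0, ⁅b, a⁆⁆⁆ = ⁅b0, a⁆ := by
  obtain ⟨hwV, hwU⟩ := h.weyl hp hb0 hy0 hi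
  set w := b0 * y0 * b0
  have hbP := hp.right.2.2 hb
  have hwl : cj w V = U := Subgroup.eq_of_le_of_card_ge (by
    rintro _ ⟨v, hv, rfl⟩
    show w * v * w⁻¹ ∈ U
    rw [hwV v hv]
    exact h.comm_line_mem hp.left hy0 hv) (by rw [card_cj, h.line_card hp.left])
  have hy' : w * b * w⁻¹ ∈ Pof U := by
    rw [← hwl, Pof_cj]; exact conj_mem_cj w hbP
  have key : ∀ v ∈ V, ⁅w * b * w⁻¹, v⁆ = ⁅y0, ⁅b, ⁅y0, v⁆⁆⁆ := by
    intro v hv
    have hu := h.comm_line_mem hp.left hy0 hv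
    have hx := h.comm_mem hbP (hp.left.2.2 hu)
    have e1 : w⁻¹ * v * w = ⁅y0, v⁆ := by
      conv_lhs => rw [← hi.1 v hv, ← hwU _ hu]
      group
    rw [commutatorElement_def]
    calc w * b * w⁻¹ * v * (w * b * w⁻¹)⁻¹ * v⁻¹ = w * (b * (w⁻¹ * v * w) * b⁻¹) * w⁻¹ * v⁻¹ := by group
      _ = w * (⁅b, ⁅y0, v⁆⁆ * ⁅y0, v⁆) * w⁻¹ * v⁻¹ := by rw [e1, commutatorElement_def b]; group
      _ = (w * ⁅b, ⁅y0, v⁆⁆ * w⁻¹) * (w * ⁅y0, v⁆ * w⁻¹) * v⁻¹ := by group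
      _ = ⁅y0, ⁅b, ⁅y0, v⁆⁆⁆ := by rw [hwV _ hx, hwU _ hu, hi.1 v hv, mul_inv_cancel_right]
  obtain ⟨a1, ha1, ha11⟩ := h.exists_ne_one hp.left
  have hv1 : ⁅b0, a1⁆ ∈ V := h.comm_mem (hp.right.2.2 hb0) (hp.left.2.2 ha1)
  obtain ⟨b', hb', -, hi'⟩ := h.inv_of_move hp hy' hv1 (by
    rw [key _ hv1, hi.2 a1 ha1]
    intro e
    have hx := h.comm_mem hbP (hp.left.2.2 ha1)
    have e2 := hi.1 _ hx
    rw [e, commutatorElement_one_right] at e2
    exact h.free hp hb hb1 ha1 ha11 (comm_one_iff.mp e2.symm))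
  refine ⟨b', hb', fun a ha => ?_⟩
  have hv := h.comm_mem (hp.right.2.2 hb0) (hp.left.2.2 ha)
  have e := hi'.1 _ hv
  rwa [key _ hv, hi.2 a ha] at e

/-- `V` is central in the radical. -/
theorem Pof_eq_Qof (hp : Pair V U U') : Pof V = Qof V := by
  set Q := Qof V with hQ
  haveI : Group.IsNilpotent ↥Q := (isPGroup_Qof V).isNilpotent
  haveI : (V.subgroupOf Q).Normal :=
    ⟨fun v hv q => (Subgroup.mem_normalizer_iff.mp (Qof_le V q.2) (v : G)).mp hv⟩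
  have hne : V.subgroupOf Q ≠ ⊥ := fun e => by
    rw [Subgroup.subgroupOf_eq_bot, disjoint_iff, inf_eq_left.mpr h.le_Q] at e
    exact h.ne_bot hp.left e
  obtain ⟨z, hz, hz1⟩ := (Subgroup.bot_or_exists_ne_one _).resolve_left (CfsgLib.inf_center_ne_bot_of_nilpotent hne)
  have hzV : (z : G) ∈ V := hz.1
  refine le_antisymm inf_le_left fun q hq => ⟨hq, Subgroup.mem_centralizer_iff.mpr fun v hv => ?_⟩
  by_cases hv1 : v = 1
  · simp [hv1]
  obtain ⟨b0, hb0, hb01⟩ := h.exists_ne_one hp.right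
  obtain ⟨y0, hy0, hi0⟩ := h.exists_inv hp hb0 hb01
  have hu := h.comm_line_mem hp.left hy0 hzV
  have hu1 : ⁅y0, (z : G)⁆ ≠ 1 := fun e => by
    have e2 := hi0.1 _ hzV
    rw [e, commutatorElement_one_right] at e2
    exact hz1 (Subtype.ext e2.symm)
  obtain ⟨b', hb', hbv⟩ := h.exists_comm' hp hu hu1 hv
  have hb'1 : b' ≠ 1 := fun e => hv1 (by rw [← hbv, e, commutatorElement_one_left])
  obtain ⟨y', hy', hi'⟩ := h.exists_inv hp hb' hb'1
  obtain ⟨hwV, -⟩ := h.weyl hp hb0 hy0 hi0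
  obtain ⟨hwV', hwU'⟩ := h.weyl hp hb' hy' hi'
  set w := b0 * y0 * b0
  set w' := b' * y' * b'
  have hmV : ∀ x ∈ V, (w' * w) * x * (w' * w)⁻¹ = ⁅b', ⁅y0, x⁆⁆ := fun x hx => by
    calc (w' * w) * x * (w' * w)⁻¹ = w' * (w * x * w⁻¹) * w'⁻¹ := by group
      _ = _ := by rw [hwV x hx, hwU' _ (h.comm_line_mem hp.left hy0 hx)]
  have hmN : w' * w ∈ Subgroup.normalizer (V : Set G) := by
    rw [← cj_eq_self_iff]
    refine Subgroup.eq_of_le_of_card_ge ?_ (card_cj _ V).ge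
    rintro _ ⟨x, hx, rfl⟩
    show (w' * w) * x * (w' * w)⁻¹ ∈ V
    rw [hmV x hx]
    exact h.comm_mem (hp.right.2.2 hb') (hp.left.2.2 (h.comm_line_mem hp.left hy0 hx))
  have hv' : v = (w' * w) * (z : G) * (w' * w)⁻¹ := by rw [hmV _ hzV, hbv]
  have hq' := Qof_conj_mem (inv_mem hmN) hq
  have hc : (w' * w)⁻¹ * q * (w' * w)⁻¹⁻¹ * (z : G) = (z : G) * ((w' * w)⁻¹ * q * (w' * w)⁻¹⁻¹) :=
    congrArg Subtype.val (Subgroup.mem_center_iff.mp hz.2 ⟨_, hq'⟩)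
  rw [inv_inv] at hc
  rw [hv']
  calc (w' * w) * (z : G) * (w' * w)⁻¹ * q
      = (w' * w) * ((z : G) * ((w' * w)⁻¹ * q * (w' * w))) * (w' * w)⁻¹ := by group
    _ = (w' * w) * (((w' * w)⁻¹ * q * (w' * w)) * (z : G)) * (w' * w)⁻¹ := by rw [hc]
    _ = q * ((w' * w) * (z : G) * (w' * w)⁻¹) := by group

/-- The coordinates. -/
theorem exists_coords (hp : Pair V U U') :
    ∃ (F : Type) (_ : Field F) (_ : Fintype F) (E : F → G) (γ : G → G),
      Fintype.card F = Nat.card V ∧ (∀ c, E c ∈ V) ∧ (∀ c d, E (c + d) = E c * E d) ∧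
      (∀ v ∈ V, ∃ c, E c = v) ∧ Function.Injective E ∧
      (∀ v ∈ V, γ v ∈ U) ∧ (∀ v ∈ V, ∀ v' ∈ V, γ (v * v') = γ v * γ v') ∧ (∀ v ∈ V, γ v = 1 → v = 1) ∧
      (∀ u ∈ U, ∃ v ∈ V, γ v = u) ∧
      (∀ p ∈ Pof V, ∃ s, ∀ c, ⁅p, γ (E c)⁆ = E (s * c)) ∧ (∀ s, ∃ p ∈ Pof V, ∀ c, ⁅p, γ (E c)⁆ = E (s * c)) ∧
      (∀ y ∈ Pof U, ∃ t, ∀ c, ⁅y, E c⁆ = γ (E (t * c))) ∧ ∀ t, ∃ y ∈ Pof U, ∀ c, ⁅y, E c⁆ = γ (E (t * c)) := by
  classical
  obtain ⟨a0, ha0, ha01⟩ := h.exists_ne_one hp.left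
  obtain ⟨b0, hb0, hb01⟩ := h.exists_ne_one hp.right
  obtain ⟨y0, hy0, hi0⟩ := h.exists_inv hp hb0 hb01
  obtain ⟨y1, hy1, hi1⟩ := h.exists_inv hp.symm ha0 ha01
  have hv0 : ⁅b0, a0⁆ ∈ V := h.comm_mem (hp.right.2.2 hb0) (hp.left.2.2 ha0)
  letI : CommGroup ↥V :=
    { (inferInstance : Group ↥V) with mul_comm := fun a b => Subtype.ext (h.comm a a.2 b b.2) }
  let D := Additive ↥V
  let em : D → G := fun d => ((Additive.toMul d : ↥V) : G)
  have hem : ∀ d, em d ∈ V := fun d => (Additive.toMul d).2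
  have hem_inj : Function.Injective em := fun a b e => Additive.toMul.injective (Subtype.ext e)
  let bOf : D → G := fun p => ⁅y1, em p⁆
  let aOf : D → G := fun q => ⁅y0, em q⁆
  have hbOf : ∀ p, bOf p ∈ U' := fun p => h.comm_line_mem hp.right hy1 (hem p)
  have haOf : ∀ q, aOf q ∈ U := fun q => h.comm_line_mem hp.left hy0 (hem q)
  have haOf_add : ∀ p q, aOf (p + q) = aOf p * aOf q := fun p q =>
    (h.line_hyp hp.left).comm_mul_right (h.symm_rel hp.left (hem p)) (h.symm_rel hp.left (hem q)) hy0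
  have hbOf_add : ∀ p q, bOf (p + q) = bOf p * bOf q := fun p q =>
    (h.line_hyp hp.right).comm_mul_right (h.symm_rel hp.right (hem p)) (h.symm_rel hp.right (hem q)) hy1
  have hmulM : ∀ p q, ⁅bOf p, aOf q⁆ ∈ V := fun p q => h.comm_mem (hp.right.2.2 (hbOf p)) (hp.left.2.2 (haOf q))
  let mk : ∀ g, g ∈ V → D := fun g hg => Additive.ofMul ⟨g, hg⟩
  obtain ⟨M, hM⟩ : ∃ M : D →+ D →+ D, ∀ p q, em (M p q) = ⁅bOf p, aOf q⁆ := by
    refine ⟨AddMonoidHom.mk' (fun p => AddMonoidHom.mk' (fun q => mk _ (hmulM p q)) fun q q' => hem_inj ?_)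
      fun p p' => AddMonoidHom.ext fun q => hem_inj ?_, fun p q => rfl⟩
    · show ⁅bOf p, aOf (q + q')⁆ = ⁅bOf p, aOf q⁆ * ⁅bOf p, aOf q'⁆
      rw [haOf_add, h.comm_mul_right (hp.left.2.2 (haOf q)) (hp.left.2.2 (haOf q')) (hp.right.2.2 (hbOf p))]
    · show ⁅bOf (p + p'), aOf q⁆ = ⁅bOf p, aOf q⁆ * ⁅bOf p', aOf q⁆
      rw [hbOf_add, h.comm_mul (hp.right.2.2 (hbOf p)) (hp.right.2.2 (hbOf p')) (hp.left.2.2 (haOf q))]
  have hb_of : ∀ b (hb : b ∈ U'), bOf (mk ⁅b, a0⁆ (h.comm_mem (hp.right.2.2 hb) (hp.left.2.2 ha0))) = b := fun b hb => by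
    show ⁅y1, ⁅b, a0⁆⁆ = b
    rw [h.comm_symm (hp.left.2.2 ha0) (hp.right.2.2 hb)]
    exact hi1.2 b hb
  have hba : ∀ p, ⁅bOf p, a0⁆ = em p := fun p => by
    rw [h.comm_symm (hp.left.2.2 ha0) (hp.right.2.2 (hbOf p))]
    exact hi1.1 _ (hem p)
  have hab : ∀ q, ⁅b0, aOf q⁆ = em q := fun q => hi0.1 _ (hem q)
  have haOne : aOf (mk _ hv0) = a0 := hi0.2 a0 ha0
  have hbOne : bOf (mk _ hv0) = b0 := hb_of b0 hb0
  let A : IPAlg D :=
    { M := M
      one := mk _ hv0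
      one_mul := fun x => hem_inj (by rw [hM, hbOne, hab])
      mul_one := fun x => hem_inj (by rw [hM, haOne, hba])
      char2 := fun x => hem_inj (h.sq _ (hem x))
      linv := fun p hp0 => by
        have hb1 : bOf p ≠ 1 := fun e => hp0 (hem_inj (by
          rw [← hba, e, commutatorElement_one_left]; rfl))
        obtain ⟨b', hb', key⟩ := h.inverse_param hp hb0 hy0 hi0 (hbOf p) hb1
        refine ⟨mk ⁅b', a0⁆ (h.comm_mem (hp.right.2.2 hb') (hp.left.2.2 ha0)), fun x => hem_inj ?_⟩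
        rw [hM, hb_of b' hb']
        show ⁅b', ⁅y0, em (M p x)⁆⁆ = em x
        rw [hM, key _ (haOf x), hab]
      rinv := fun p hp0 => by
        have ha1 : aOf p ≠ 1 := fun e => hp0 (hem_inj (by
          rw [← hab, e, commutatorElement_one_right]; rfl))
        obtain ⟨a', ha', key⟩ := h.inverse_param hp.symm ha0 hy1 hi1 (haOf p) ha1
        refine ⟨mk ⁅b0, a'⁆ (h.comm_mem (hp.right.2.2 hb0) (hp.left.2.2 ha')), fun x => hem_inj ?_⟩
        rw [hM]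
        show ⁅⁅y1, em (M x p)⁆, ⁅y0, ⁅b0, a'⁆⁆⁆ = em x
        rw [hi0.2 a' ha', hM, h.comm_symm (hp.left.2.2 (haOf p)) (hp.right.2.2 (hbOf x)),
          h.comm_symm (hp.left.2.2 ha') (hp.right.2.2 (h.comm_line_mem hp.right hy1
            (h.comm_mem (hp.left.2.2 (haOf p)) (hp.right.2.2 (hbOf x))))),
          key _ (hbOf x)]
        exact hi1.1 _ (hem x) }
  haveI : Nontrivial D := by
    obtain ⟨v, hv⟩ := Subgroup.ne_bot_iff_exists_ne_one.mp (h.ne_bot hp.left)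
    exact ⟨Additive.ofMul v, 0, hv⟩
  obtain ⟨hcomm, hassoc⟩ := A.comm_assoc
  let L : D →+ AddMonoid.End D := M
  have hLinj : Function.Injective L := fun p q e => by
    rw [← A.mul_one p, ← A.mul_one q]
    exact DFunLike.congr_fun e A.one
  have hJ : JordanDiv.Jordan L.range := by
    refine ⟨⟨A.one, AddMonoidHom.ext A.one_mul⟩, ?_, ?_⟩
    · rintro _ ⟨x, rfl⟩ _ ⟨y, rfl⟩
      refine ⟨M x (M y x), AddMonoidHom.ext fun z => ?_⟩
      show M (M x (M y x)) z = M x (M y (M x z))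
      rw [← hassoc y x z]; exact hassoc x (M y x) z
    · rintro _ ⟨x, rfl⟩ hx v hv
      obtain ⟨x', hx'⟩ := A.linv x fun e => hx (by rw [e, map_zero])
      have := hx' v
      rw [show A.M x v = 0 from hv, map_zero] at this
      exact this.symm
  obtain ⟨F, iF, iF', ev, μ, hevb, hevmul, hμS, -⟩ :=
    SL2Pair.exists_field hJ (Nat.card_congr (Equiv.ofInjective L hLinj))
  choose m hm using hμS
  have hev : ∀ c, ev c = M (m c) (ev 1) := fun c => by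
    conv_lhs => rw [← mul_one c, hevmul, ← hm]
    rfl
  obtain ⟨e', he'⟩ := A.linv (ev 1) (fun e => one_ne_zero (hevb.1 (e.trans (map_zero ev).symm)))
  let E₀ : F →+ D := (M e').comp ev
  have hE : ∀ c, E₀ c = m c := fun c => by
    show M e' (ev c) = m c
    rw [hev, show M (m c) (ev 1) = M (ev 1) (m c) from hcomm _ _]
    exact he' _
  have hEmul : ∀ c d, E₀ (c * d) = M (E₀ c) (E₀ d) := fun c d => by
    show M e' (ev (c * d)) = M (E₀ c) (M e' (ev d))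
    rw [hevmul, ← hm, hE]
    show M e' (M (m c) (ev d)) = _
    rw [← show M (M e' (m c)) (ev d) = M e' (M (m c) (ev d)) from hassoc _ _ _,
      show M e' (m c) = M (m c) e' from hcomm _ _]
    exact hassoc _ _ _
  have hEsurj : Function.Surjective E₀ := fun x => by
    obtain ⟨c, hc⟩ := hevb.2 (M (ev 1) x)
    exact ⟨c, by show M e' (ev c) = x; rw [hc]; exact he' x⟩
  have hEinj : Function.Injective E₀ := fun c d e => hevb.1 (by rw [hev c, hev d, ← hE, ← hE, e])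
  refine ⟨F, iF, iF', fun c => em (E₀ c), fun v => ⁅y0, v⁆, ?_, fun c => hem _, fun c d => by show em (E₀ (c + d)) = em (E₀ c) * em (E₀ d); rw [map_add]; rfl,
    fun v hv => ?_, hem_inj.comp hEinj, fun v hv => h.comm_line_mem hp.left hy0 hv,
    fun v hv v' hv' => (h.line_hyp hp.left).comm_mul_right (h.symm_rel hp.left hv) (h.symm_rel hp.left hv') hy0,
    fun v hv e => ?_, fun u hu => ⟨⁅b0, u⁆, h.comm_mem (hp.right.2.2 hb0) (hp.left.2.2 hu), hi0.2 u hu⟩,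
    fun p hpP => ?_, fun s => ?_, fun y hy => ?_, fun t => ?_⟩
  · rw [← Nat.card_eq_fintype_card, Nat.card_congr (Equiv.ofBijective E₀ ⟨hEinj, hEsurj⟩)]
    exact Nat.card_congr Additive.toMul
  · obtain ⟨c, hc⟩ := hEsurj (mk v hv)
    exact ⟨c, congrArg em hc⟩
  · rw [← hi0.1 v hv, show ⁅y0, v⁆ = 1 from e, commutatorElement_one_right]
  · obtain ⟨b, hb, hpb⟩ := h.decompose hp hpP
    obtain ⟨s, hs⟩ := hEsurj (mk ⁅b, a0⁆ (h.comm_mem (hp.right.2.2 hb) (hp.left.2.2 ha0)))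
    refine ⟨s, fun c => ?_⟩
    have hu := haOf (E₀ c)
    have hbP := hp.right.2.2 hb
    have huP := hp.left.2.2 hu
    have e1 := h.comm_mul hpP hbP huP
    rw [comm_one_iff.mpr (hpb _ hu)] at e1
    show ⁅p, aOf (E₀ c)⁆ = em (E₀ (s * c))
    rw [eq_inv_of_mul_eq_one_left e1.symm, h.inv_eq (h.comm_mem hbP huP), hEmul, hM, hs, hb_of b hb]
  · exact ⟨bOf (E₀ s), hp.right.2.2 (hbOf _), fun c => by
      show ⁅bOf (E₀ s), aOf (E₀ c)⁆ = em (E₀ (s * c)); rw [hEmul, hM]⟩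
  · by_cases hall : ∀ v ∈ V, ⁅y, v⁆ = 1
    · refine ⟨0, fun c => ?_⟩
      show ⁅y, em (E₀ c)⁆ = ⁅y0, em (E₀ (0 * c))⁆
      rw [zero_mul, map_zero]
      show _ = ⁅y0, (1 : G)⁆
      rw [hall _ (hem _), commutatorElement_one_right]
    push Not at hall
    obtain ⟨v, hv, hne⟩ := hall
    obtain ⟨b, hb, hb1, hi⟩ := h.inv_of_move hp hy hv hne
    obtain ⟨s, hs⟩ := hEsurj (mk ⁅b, a0⁆ (h.comm_mem (hp.right.2.2 hb) (hp.left.2.2 ha0)))
    have hs0 : s ≠ 0 := by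
      rintro rfl
      rw [map_zero] at hs
      exact h.free hp hb hb1 ha0 ha01 (comm_one_iff.mp (congrArg em hs).symm)
    refine ⟨s⁻¹, fun c => ?_⟩
    show ⁅y, em (E₀ c)⁆ = aOf (E₀ (s⁻¹ * c))
    refine h.comm_inj hp hb hb1 (h.comm_line_mem hp.left hy (hem _)) (haOf _) ?_
    rw [hi.1 _ (hem _), ← hb_of b hb, ← hM, ← hs, ← hEmul, mul_inv_cancel_left₀ hs0]
  · by_cases ht : t = 0
    · exact ⟨1, one_mem _, fun c => by
        show ⁅(1 : G), em (E₀ c)⁆ = ⁅y0, em (E₀ (t * c))⁆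
        rw [ht, zero_mul, map_zero, commutatorElement_one_left]; exact (commutatorElement_one_right _).symm⟩
    set b := bOf (E₀ t⁻¹) with hbdef
    have hb1 : b ≠ 1 := fun e => inv_ne_zero ht (hEinj (hem_inj (by
      rw [← hba, ← hbdef, e, commutatorElement_one_left, map_zero]; rfl)))
    obtain ⟨y, hy, hi⟩ := h.exists_inv hp (hbOf _) hb1
    refine ⟨y, hy, fun c => ?_⟩
    show ⁅y, em (E₀ c)⁆ = aOf (E₀ (t * c))
    refine h.comm_inj hp (hbOf _) hb1 (h.comm_line_mem hp.left hy (hem _)) (haOf _) ?_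
    rw [hi.1 _ (hem _), ← hM, ← hEmul, inv_mul_cancel_left₀ ht]

/-- The action on `W`. -/
theorem quotient_iso (hp : Pair V U U') (H : Subgroup G) (hH : H = Pof V ⊔ Pof U)
    (hHW : H ≤ Subgroup.normalizer ((V ⊔ U : Subgroup G) : Set G))
    (hN : ((Subgroup.centralizer ((V ⊔ U : Subgroup G) : Set G)).subgroupOf H).Normal) :
    ∃ (F : Type) (_ : Field F) (_ : Fintype F), Fintype.card F = Nat.card ↥V ∧
      Nonempty (↥H ⧸ (Subgroup.centralizer ((V ⊔ U : Subgroup G) : Set G)).subgroupOf H ≃*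
        Matrix.SpecialLinearGroup (Fin 2) F) := by
  classical
  obtain ⟨F, iF, iF', E, γ, hcard, hEV, hEadd, hEsurj, hEinj, hγU, hγadd, hγ1, hγs, hupP, hupS, hloP, hloS⟩ :=
    h.exists_coords hp
  refine ⟨F, iF, iF', hcard, ?_⟩
  set W : Subgroup G := V ⊔ U
  have hUh := h.line_hyp hp.left
  letI : CommGroup ↥W :=
    { (inferInstance : Group ↥W) with
      mul_comm := fun a b => Subtype.ext (by
        obtain ⟨v, hv, u, hu, ea⟩ := h.mem_W hp.left a.2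
        obtain ⟨v', hv', u', hu', eb⟩ := h.mem_W hp.left b.2
        show (a : G) * b = b * a
        rw [ea, eb]
        exact (Commute.mul_right (Commute.mul_left (h.comm v hv v' hv') (h.line_comm hp.left hu hv').symm)
          (Commute.mul_left (h.line_comm hp.left hu' hv) (hUh.comm u hu u' hu'))).eq) }
  let ψ : ↥H →* AddMonoid.End (Additive ↥W) :=
    { toFun := fun x => AddMonoidHom.mk' (fun w => Additive.ofMul
          (⟨(x : G) * ((Additive.toMul w : ↥W) : G) * (x : G)⁻¹,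
            (Subgroup.mem_normalizer_iff.mp (hHW x.2) _).mp (Additive.toMul w).2⟩ : ↥W))
        fun a b => Additive.toMul.injective (Subtype.ext (by
          show (x : G) * (((Additive.toMul a : ↥W) : G) * ((Additive.toMul b : ↥W) : G)) * (x : G)⁻¹ = (_ * _) * (_ * _)
          group))
      map_one' := AddMonoidHom.ext fun w => Additive.toMul.injective (Subtype.ext (by
        show (1 : G) * ((Additive.toMul w : ↥W) : G) * (1 : G)⁻¹ = ((Additive.toMul w : ↥W) : G)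
        group))
      map_mul' := fun x y => AddMonoidHom.ext fun w => Additive.toMul.injective (Subtype.ext (by
        show (x : G) * y * ((Additive.toMul w : ↥W) : G) * ((x : G) * y)⁻¹ = (x : G) * ((y : G) * _ * (y : G)⁻¹) * (x : G)⁻¹
        group)) }
  set K := (Subgroup.centralizer (W : Set G)).subgroupOf H with hK
  have hKψ : ∀ x : ↥H, ψ x = 1 ↔ x ∈ K := by
    intro x
    rw [hK, Subgroup.mem_subgroupOf, Subgroup.mem_centralizer_iff]
    constructor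
    · intro e w hw
      have e1 : (x : G) * w * (x : G)⁻¹ = w :=
        congrArg (fun f : AddMonoid.End (Additive ↥W) => ((Additive.toMul (f (Additive.ofMul ⟨w, hw⟩)) : ↥W) : G)) e
      calc w * (x : G) = (x : G) * w * (x : G)⁻¹ * x := by rw [e1]
        _ = x * w := by group
    · intro e
      refine AddMonoidHom.ext fun w => Additive.toMul.injective (Subtype.ext ?_)
      show (x : G) * ((Additive.toMul w : ↥W) : G) * (x : G)⁻¹ = ((Additive.toMul w : ↥W) : G)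
      rw [← e _ (Additive.toMul w).2, mul_inv_cancel_right]
  let ρ : ↥H ⧸ K →* AddMonoid.End (Additive ↥W) := QuotientGroup.lift K ψ fun x hx => MonoidHom.mem_ker.mpr ((hKψ x).mpr hx)
  have hρ : Function.Injective ρ := (injective_iff_map_eq_one ρ).mpr fun x hx => by
    obtain ⟨x, rfl⟩ := QuotientGroup.mk_surjective x
    exact (QuotientGroup.eq_one_iff x).mpr ((hKψ x).mp hx)
  have hmemW : ∀ a b : F, E a * γ (E b) ∈ W := fun a b => Subgroup.mul_mem_sup (hEV a) (hγU _ (hEV b))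
  let Φ : (Fin 2 → F) →+ Additive ↥W :=
    AddMonoidHom.mk' (fun c => Additive.ofMul ⟨E (c 0) * γ (E (c 1)), hmemW _ _⟩) fun c d =>
      Additive.toMul.injective (Subtype.ext (by
        show E (c 0 + d 0) * γ (E (c 1 + d 1)) = E (c 0) * γ (E (c 1)) * (E (d 0) * γ (E (d 1)))
        rw [hEadd, hEadd, hγadd _ (hEV _) _ (hEV _), mul_assoc, ← mul_assoc (E (d 0)),
          h.line_comm hp.left (hγU _ (hEV (c 1))) (hEV (d 0))]
        group))
  have hE0 : E 0 = 1 := by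
    have := hEadd 0 0
    rwa [add_zero, left_eq_mul] at this
  have hγinj : ∀ a b : F, γ (E a) = γ (E b) → a = b := fun a b e => by
    have e1 : γ (E (a - b)) = 1 := by
      have := hγadd _ (hEV (a - b)) _ (hEV b)
      rw [← hEadd, sub_add_cancel, e, right_eq_mul] at this
      exact this
    exact sub_eq_zero.mp (hEinj ((hγ1 _ (hEV _) e1).trans hE0.symm))
  have hΦ : Function.Bijective Φ := by
    refine ⟨fun c d e => ?_, fun w => ?_⟩
    · obtain ⟨e0, e1⟩ := h.decomp_unique hp.left (hEV _) (hEV _) (hγU _ (hEV _)) (hγU _ (hEV _))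
        (congrArg (fun w => ((Additive.toMul w : ↥W) : G)) e)
      exact funext fun i => by fin_cases i; exacts [hEinj e0, hγinj _ _ e1]
    · obtain ⟨v, hv, u, hu, e⟩ := h.mem_W hp.left (Additive.toMul w).2
      obtain ⟨v', hv', rfl⟩ := hγs u hu
      obtain ⟨c, rfl⟩ := hEsurj v hv
      obtain ⟨d, rfl⟩ := hEsurj v' hv'
      exact ⟨![c, d], Additive.toMul.injective (Subtype.ext e.symm)⟩
  haveI : Nontrivial (Additive ↥W) := hΦ.1.nontrivial
  have hup : ∀ (x : ↥H) (s : F), (x : G) ∈ Pof V → (∀ c, ⁅(x : G), γ (E c)⁆ = E (s * c)) →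
      ∀ c, ρ (QuotientGroup.mk x) (Φ c) = Φ ((SL2Pair.up s).1.mulVec c) := by
    intro x s hx hs c
    refine Additive.toMul.injective (Subtype.ext ?_)
    show (x : G) * (E (c 0) * γ (E (c 1))) * (x : G)⁻¹ =
      E ((SL2Pair.up s).1.mulVec c 0) * γ (E ((SL2Pair.up s).1.mulVec c 1))
    rw [(SL2Pair.up_mulVec s c).1, (SL2Pair.up_mulVec s c).2, hEadd, ← hs, commutatorElement_def, ← mul_assoc (x : G),
      ← h.P_comm hx (hEV _)]
    group
  have hlo : ∀ (x : ↥H) (t : F), (x : G) ∈ Pof U → (∀ c, ⁅(x : G), E c⁆ = γ (E (t * c))) →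
      ∀ c, ρ (QuotientGroup.mk x) (Φ c) = Φ ((SL2Pair.lo t).1.mulVec c) := by
    intro x t hx ht c
    refine Additive.toMul.injective (Subtype.ext ?_)
    show (x : G) * (E (c 0) * γ (E (c 1))) * (x : G)⁻¹ =
      E ((SL2Pair.lo t).1.mulVec c 0) * γ (E ((SL2Pair.lo t).1.mulVec c 1))
    rw [(SL2Pair.lo_mulVec t c).1, (SL2Pair.lo_mulVec t c).2, hEadd, hγadd _ (hEV _) _ (hEV _), ← mul_assoc (E (c 0)) (γ (E (t * c 0))),
      h.line_comm hp.left (hγU _ (hEV (t * c 0))) (hEV (c 0)), ← ht, commutatorElement_def, ← mul_assoc (x : G),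
      mul_assoc ((x : G) * E (c 0)), hUh.P_comm (inv_mem hx) (hγU _ (hEV _))]
    group
  let T : Set (↥H ⧸ K) := QuotientGroup.mk '' {x : ↥H | (x : G) ∈ Pof V ∨ (x : G) ∈ Pof U}
  have hT : Subgroup.closure T = ⊤ := by
    refine eq_top_iff.mpr fun q _ => ?_
    obtain ⟨x, rfl⟩ := QuotientGroup.mk_surjective q
    have hle : H ≤ ((Subgroup.closure T).comap (QuotientGroup.mk' K)).map H.subtype := by
      conv_lhs => rw [hH]
      refine sup_le (fun p hpP => ?_) (fun p hpP => ?_)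
      · exact ⟨⟨p, hH ▸ Subgroup.mem_sup_left hpP⟩, Subgroup.subset_closure ⟨_, Or.inl hpP, rfl⟩, rfl⟩
      · exact ⟨⟨p, hH ▸ Subgroup.mem_sup_right hpP⟩, Subgroup.subset_closure ⟨_, Or.inr hpP, rfl⟩, rfl⟩
    obtain ⟨y, hy, e⟩ := hle x.2
    rw [show x = y from Subtype.ext e.symm]
    exact hy
  obtain ⟨e, -, -⟩ := SL2Pair.iso_of_coords ρ hρ Φ hΦ T hT
    (by
      rintro _ ⟨x, hx | hx, rfl⟩
      · obtain ⟨s, hs⟩ := hupP x hx
        exact ⟨_, hup x s hx hs⟩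
      · obtain ⟨t, ht⟩ := hloP x hx
        exact ⟨_, hlo x t hx ht⟩)
    (fun s => by
      obtain ⟨p, hpP, hs⟩ := hupS s
      exact ⟨_, hup ⟨p, hH ▸ Subgroup.mem_sup_left hpP⟩ s hpP hs⟩)
    (fun t => by
      obtain ⟨p, hpP, ht⟩ := hloS t
      exact ⟨_, hlo ⟨p, hH ▸ Subgroup.mem_sup_right hpP⟩ t hpP ht⟩)
  exact ⟨e⟩

/-- Frattini subgroup, centre and commutator subgroup of the radical. -/
theorem special (hp : Pair V U U') :
    (frattini ↥(Qof V)).map (Qof V).subtype = V ∧ (Subgroup.center ↥(Qof V)).map (Qof V).subtype = V ∧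
      (commutator ↥(Qof V)).map (Qof V).subtype = V := by
  have hPQ := h.Pof_eq_Qof hp
  set Q := Qof V with hQ
  have hQ2 : IsPGroup 2 ↥Q := isPGroup_Qof V
  haveI : Fact (Nat.Prime 2) := ⟨Nat.prime_two⟩
  have hP : ∀ {x : G}, x ∈ Q → x ∈ Pof V := fun hx => hPQ.symm ▸ hx
  have hcom : (commutator ↥Q).map Q.subtype = V := by
    rw [Subgroup.map_subtype_commutator]
    refine le_antisymm (Subgroup.commutator_le.mpr fun a ha b hb => h.comm_mem (hP ha) (hP hb)) fun v hv => ?_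
    obtain ⟨b, hb, hb1⟩ := h.exists_ne_one hp.right
    obtain ⟨u, hu, rfl⟩ := h.exists_comm hp hb hb1 hv
    exact Subgroup.commutator_mem_commutator (hp.right.2.2 hb).1 (hp.left.2.2 hu).1
  refine ⟨le_antisymm ?_ ?_, ?_, hcom⟩
  · rintro _ ⟨x, hx, rfl⟩
    refine (CfsgLib.RankFrattini.frattini_le_of_elementary hQ2 (V.subgroupOf Q)
      (fun a b => h.comm_mem (hP a.2) (hP b.2)) (fun a => ?_) hx : x ∈ V.subgroupOf Q)
    show ((a : ↥Q) : G) ^ 2 ∈ V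
    rw [pow_two]; exact h.sq_mem (hP a.2)
  · exact hcom.ge.trans (Subgroup.map_mono (CfsgLib.commutator_le_frattini_pGroup hQ2))
  · refine le_antisymm ?_ fun v hv => ⟨⟨v, h.le_Q hv⟩, Subgroup.mem_center_iff.mpr fun q =>
      Subtype.ext (h.P_comm (hP q.2) hv).symm, rfl⟩
    rintro _ ⟨x, hx, rfl⟩
    exact h.center (hP x.2) fun p hp' => congrArg Subtype.val (Subgroup.mem_center_iff.mp hx ⟨p, hp'.1⟩)

end Hyp

end CfsgLib.TISpecial
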