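import Cfsg.Agent.Lib.TISpecial.Basic

/-!
Two non-commuting conjugates inside the radical, and symmetry of the relation.
-/

set_option autoImplicit false

namespace CfsgLib.TISpecial

open Cfsg
open scoped commutatorElement

universe u

variable {G : Type u} [Group G] {V U U' : Subgroup G}

/-- Two non-commuting lines. -/
structure Pair (V U U' : Subgroup G) : Prop where
  left : IsLine V U
  right : IsLine V U'
  nc : ∃ a ∈ U, ∃ b ∈ U', a * b ≠ b * a

theorem Pair.symm (hp : Pair V U U') : Pair V U' U :=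
  ⟨hp.right, hp.left, let ⟨a, ha, b, hb, hab⟩ := hp.nc; ⟨b, hb, a, ha, fun e => hab e.symm⟩⟩

theorem comm_one_iff {a b : G} : ⁅a, b⁆ = 1 ↔ a * b = b * a := commutatorElement_eq_one_iff_mul_comm

namespace Hyp

variable [Finite G] (h : Hyp V)

include h

theorem line_comm (hU : IsLine V U) {u v : G} (hu : u ∈ U) (hv : v ∈ V) : v * u = u * v :=
  h.P_comm (hU.2.2 hu) hv

theorem line_card (hU : IsLine V U) : Nat.card U = Nat.card V := by
  obtain ⟨⟨g, rfl⟩, -, -⟩ := hU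
  exact card_cj g V

theorem line_hyp (hU : IsLine V U) : Hyp U := by
  obtain ⟨⟨g, rfl⟩, -, -⟩ := hU
  exact h.conj g

theorem line_inter (hU : IsLine V U) {x : G} (hxU : x ∈ U) (hxV : x ∈ V) : x = 1 := by
  by_contra hne
  obtain ⟨⟨g, rfl⟩, hne', -⟩ := hU
  exact hne' ((h.eq_of_mem hxU ((cj_one V).symm ▸ hxV) hne).trans (cj_one V))

theorem ne_bot (hU : IsLine V U) : V ≠ ⊥ := by
  rintro rfl
  obtain ⟨⟨g, rfl⟩, hne, -⟩ := hU
  exact hne (Subgroup.map_bot _)

theorem le_normalizer (hU : IsLine V U) : V ≤ Subgroup.normalizer (U : Set G) := fun v hv => by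
  refine Subgroup.centralizer_le_normalizer _ (Subgroup.mem_centralizer_iff.mpr fun u hu => ?_)
  exact (h.line_comm hU hu hv).symm

theorem line_cj (hU : IsLine V U) {m : G} (hm : m ∈ Subgroup.normalizer (V : Set G)) : IsLine V (cj m U) := by
  have hmV := cj_eq_self_iff.mpr hm
  obtain ⟨⟨g, rfl⟩, hne, hle⟩ := hU
  refine ⟨⟨m * g, cj_cj m g V⟩, fun e => hne ?_, fun x hx => ?_⟩
  · have := congrArg (cj m⁻¹) e
    have h2 : cj m⁻¹ V = V := cj_eq_self_iff.mpr (inv_mem hm)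
    rwa [cj_cj, inv_mul_cancel, cj_one, h2] at this
  · obtain ⟨y, hy, rfl⟩ := hx
    exact Pof_conj_mem hm (hle hy)

/-- An element of `P` centralising a non-identity element of a line centralises the line. -/
theorem P_key (hU : IsLine V U) {x u : G} (hx : x ∈ Pof V) (hu : u ∈ U) (hu1 : u ≠ 1) (hc : x * u = u * x)
    {u' : G} (hu' : u' ∈ U) : x * u' = u' * x := by
  have hN := (h.line_hyp hU).mem_normalizer hu hu1 hc
  have h1 : ⁅x, u'⁆ ∈ U := by
    rw [commutatorElement_def]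
    exact mul_mem ((Subgroup.mem_normalizer_iff.mp hN u').mp hu') (inv_mem hu')
  exact comm_one_iff.mp (h.line_inter hU h1 (h.comm_mem hx (hU.2.2 hu')))

/-- Every line has a partner. -/
theorem exists_pair (hU : IsLine V U) : ∃ U', Pair V U U' := by
  by_contra hcon
  push Not at hcon
  set S : Set G := {x | x ∈ V ∨ ∃ U', IsLine V U' ∧ x ∈ U'} with hS
  set L := Subgroup.closure S with hL
  have hLP : L ≤ Pof V := (Subgroup.closure_le _).mpr (by
    rintro x (hx | ⟨U', hU', hx⟩)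
    · exact h.le_P hx
    · exact hU'.2.2 hx)
  have hLn : ∀ m ∈ Subgroup.normalizer (V : Set G), ∀ a ∈ L, m * a * m⁻¹ ∈ L := fun m hm => by
    have hle : L ≤ L.comap (MulAut.conj m).toMonoidHom := (Subgroup.closure_le _).mpr (by
      rintro x (hx | ⟨U', hU', hx⟩)
      · exact Subgroup.subset_closure (Or.inl ((Subgroup.mem_normalizer_iff.mp hm x).mp hx))
      · exact Subgroup.subset_closure (Or.inr ⟨_, h.line_cj hU' hm, conj_mem_cj m hx⟩))
    exact fun a ha => hle ha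
  set A := L ⊓ Subgroup.centralizer (L : Set G) with hA
  have hVA : V ≤ A := fun v hv => ⟨Subgroup.subset_closure (Or.inl hv),
    Subgroup.mem_centralizer_iff.mpr fun l hl => (h.P_comm (hLP hl) hv).symm⟩
  have hAV : A = V := h.max A hVA (inf_le_left.trans (hLP.trans (Pof_le V)))
    (fun a ha b hb => Subgroup.mem_centralizer_iff.mp hb.2 a ha.1)
    (fun m hm a ha => ⟨hLn m hm a ha.1, Subgroup.mem_centralizer_iff.mpr fun l hl => by
      have h1 := Subgroup.mem_centralizer_iff.mp ha.2 _ (hLn _ (inv_mem hm) l hl)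
      rw [inv_inv] at h1
      calc l * (m * a * m⁻¹) = m * ((m⁻¹ * l * m) * a) * m⁻¹ := by group
        _ = m * (a * (m⁻¹ * l * m)) * m⁻¹ := by rw [h1]
        _ = m * a * m⁻¹ * l := by group⟩)
  obtain ⟨g, hg⟩ := hU.1
  obtain ⟨u, huU, hu1⟩ : ∃ u ∈ U, u ≠ 1 := by
    by_contra hall
    push Not at hall
    have h1 : Nat.card U = 1 := by rw [(Subgroup.eq_bot_iff_forall U).mpr hall, Subgroup.card_bot]
    exact h.ne_bot hU (Subgroup.eq_bot_of_card_eq V (h.line_card hU ▸ h1))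
  refine hu1 (h.line_inter hU huU (hAV.le ⟨Subgroup.subset_closure (Or.inr ⟨U, hU, huU⟩), ?_⟩))
  have hle : L ≤ Subgroup.centralizer ({u} : Set G) := (Subgroup.closure_le _).mpr (by
    rintro x (hx | ⟨U', hU', hx⟩)
    · exact Subgroup.mem_centralizer_singleton_iff.mpr (h.line_comm hU huU hx)
    · refine Subgroup.mem_centralizer_singleton_iff.mpr ?_
      by_contra hne
      exact hcon U' ⟨hU, hU', u, huU, x, hx, fun e => hne e.symm⟩)
  exact Subgroup.mem_centralizer_iff.mpr fun l hl => Subgroup.mem_centralizer_singleton_iff.mp (hle hl)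

theorem free (hp : Pair V U U') {b a : G} (hb : b ∈ U') (hb1 : b ≠ 1) (ha : a ∈ U) (ha1 : a ≠ 1) :
    b * a ≠ a * b := by
  intro e
  obtain ⟨a0, ha0, b0, hb0, hne⟩ := hp.nc
  have h1 : a0 * b = b * a0 := (h.P_key hp.left (hp.right.2.2 hb) ha ha1 e ha0).symm
  exact hne (h.P_key hp.right (hp.left.2.2 ha0) hb hb1 h1 hb0)

theorem exists_comm (hp : Pair V U U') {b : G} (hb : b ∈ U') (hb1 : b ≠ 1) {v : G} (hv : v ∈ V) :
    ∃ u ∈ U, ⁅b, u⁆ = v := by
  have hbP := hp.right.2.2 hb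
  let f : U → V := fun u => ⟨⁅b, u⁆, h.comm_mem hbP (hp.left.2.2 u.2)⟩
  have hinj : Function.Injective f := fun x y e => by
    have e' : ⁅b, (x : G)⁆ = ⁅b, (y : G)⁆ := congrArg Subtype.val e
    have h1 : ⁅b, (x : G) * y⁆ = 1 := by
      rw [h.comm_mul_right (hp.left.2.2 x.2) (hp.left.2.2 y.2) hbP, e', h.sq _ (h.comm_mem hbP (hp.left.2.2 y.2))]
    by_contra hne
    refine h.free hp hb hb1 (mul_mem x.2 y.2) (fun e1 => hne (Subtype.ext ?_)) (comm_one_iff.mp h1)
    rw [eq_inv_of_mul_eq_one_left e1, (h.line_hyp hp.left).inv_eq y.2]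
  haveI : Fintype U := Fintype.ofFinite _
  haveI : Fintype V := Fintype.ofFinite _
  have hbij : Function.Bijective f := (Fintype.bijective_iff_injective_and_card f).mpr ⟨hinj, by
    rw [← Nat.card_eq_fintype_card, ← Nat.card_eq_fintype_card]; exact h.line_card hp.left⟩
  obtain ⟨u, hu⟩ := hbij.2 ⟨v, hv⟩
  exact ⟨u, u.2, congrArg Subtype.val hu⟩

theorem exists_comm' (hp : Pair V U U') {a : G} (ha : a ∈ U) (ha1 : a ≠ 1) {v : G} (hv : v ∈ V) :
    ∃ b ∈ U', ⁅b, a⁆ = v := by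
  obtain ⟨b, hb, e⟩ := h.exists_comm hp.symm ha ha1 hv
  exact ⟨b, hb, by rw [h.comm_symm (hp.left.2.2 ha) (hp.right.2.2 hb), e]⟩

theorem exists_ne_one (hU : IsLine V U) : ∃ a ∈ U, a ≠ 1 := by
  by_contra hall
  push Not at hall
  have h1 : Nat.card U = 1 := by rw [(Subgroup.eq_bot_iff_forall U).mpr hall, Subgroup.card_bot]
  exact h.ne_bot hU (Subgroup.eq_bot_of_card_eq V (h.line_card hU ▸ h1))

theorem decompose (hp : Pair V U U') {x : G} (hx : x ∈ Pof V) :
    ∃ b ∈ U', ∀ u ∈ U, (x * b) * u = u * (x * b) := by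
  obtain ⟨a, ha, ha1⟩ := h.exists_ne_one hp.left
  obtain ⟨b, hb, e⟩ := h.exists_comm' hp ha ha1 (h.comm_mem hx (hp.left.2.2 ha))
  refine ⟨b, hb, fun u hu => h.P_key hp.left (mul_mem hx (hp.right.2.2 hb)) ha ha1 (comm_one_iff.mp ?_) hu⟩
  rw [h.comm_mul hx (hp.right.2.2 hb) (hp.left.2.2 ha), e, h.sq _ (h.comm_mem hx (hp.left.2.2 ha))]

theorem center_left (hp : Pair V U U') {r : G} (hr : r ∈ Pof V) (hrU : ∀ u ∈ U, r * u = u * r)
    (hrR : ∀ s ∈ Pof V, (∀ u ∈ U, s * u = u * s) → r * s = s * r) : ∃ u ∈ U, r * u ∈ V := by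
  obtain ⟨b, hb, hb1⟩ := h.exists_ne_one hp.right
  obtain ⟨u, hu, e⟩ := h.exists_comm hp hb hb1 (h.comm_mem (hp.right.2.2 hb) hr)
  have huP := hp.left.2.2 hu
  have hruP := mul_mem hr huP
  refine ⟨u, hu, h.center hruP fun p hpP => ?_⟩
  have hb' : ∀ b' ∈ U', (r * u) * b' = b' * (r * u) := fun b' hb' => by
    refine h.P_key hp.right hruP hb hb1 (Eq.symm (comm_one_iff.mp ?_)) hb'
    rw [h.comm_mul_right hr huP (hp.right.2.2 hb), e, h.sq _ (h.comm_mem (hp.right.2.2 hb) hr)]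
  obtain ⟨b', hb'', hs⟩ := h.decompose hp hpP
  set s := p * b' with hs'
  have hsP : s ∈ Pof V := mul_mem hpP (hp.right.2.2 hb'')
  have h1 : (r * u) * s = s * (r * u) := by
    rw [mul_assoc, ← hs u hu, ← mul_assoc, hrR s hsP hs, mul_assoc]
  have e1 : p = s * b'⁻¹ := by rw [hs', mul_inv_cancel_right]
  have h2 : (r * u) * b'⁻¹ = b'⁻¹ * (r * u) := (Commute.inv_right (hb' b' hb''))
  rw [e1, mul_assoc, ← h2, ← mul_assoc, ← h1, mul_assoc]

/-- An element of the normalizer centralising `P` is in `V`. -/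
theorem centralizer_P {m : G} (hm : m ∈ Subgroup.normalizer (V : Set G)) (hc : ∀ p ∈ Pof V, p * m = m * p) :
    m ∈ V := by
  set X := Subgroup.normalizer (V : Set G) ⊓ Subgroup.centralizer (Pof V : Set G) with hX
  have hXn : ∀ n ∈ Subgroup.normalizer (V : Set G), ∀ a ∈ X, n * a * n⁻¹ ∈ X := fun n hn a ha =>
    ⟨(mul_mem (mul_mem hn (Subgroup.mem_inf.mp ha).1) (inv_mem hn) : n * a * n⁻¹ ∈ Subgroup.normalizer (V : Set G)),
      Subgroup.mem_centralizer_iff.mpr fun p hp => by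
      have h1 := Subgroup.mem_centralizer_iff.mp ha.2 _ (Pof_conj_mem (inv_mem hn) hp)
      rw [inv_inv] at h1
      calc p * (n * a * n⁻¹) = n * ((n⁻¹ * p * n) * a) * n⁻¹ := by group
        _ = n * (a * (n⁻¹ * p * n)) * n⁻¹ := by rw [h1]
        _ = n * a * n⁻¹ * p := by group⟩
  have hXQ : ∀ x ∈ X, x ∈ Qof V → x ∈ V := fun x hx hxQ =>
    h.center ⟨hxQ, Subgroup.mem_centralizer_iff.mpr fun v hv => Subgroup.mem_centralizer_iff.mp hx.2 v (h.le_P hv)⟩
      (Subgroup.mem_centralizer_iff.mp hx.2)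
  have hX4 : ∀ x ∈ X, x * x ∈ V := fun x hx => by
    refine hXQ _ (mul_mem hx hx) (h.cen _ (mul_mem hx.1 hx.1) fun q hq => ?_)
    have hc1 : ⁅q, x⁆ ∈ X := by
      rw [commutatorElement_def]; exact mul_mem (hXn q (Qof_le V hq) x hx) (inv_mem hx)
    have hc2 : ⁅q, x⁆ ∈ Qof V := by
      rw [show ⁅q, x⁆ = q * (x * q⁻¹ * x⁻¹) by rw [commutatorElement_def]; group]
      exact mul_mem hq (Qof_conj_mem hx.1 (inv_mem hq))
    have hcV := hXQ _ hc1 hc2
    have hxc : ⁅q, x⁆ * x = x * ⁅q, x⁆ := Subgroup.mem_centralizer_iff.mp hx.2 _ (h.le_P hcV)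
    have e : q * x = ⁅q, x⁆ * (x * q) := by rw [commutatorElement_def]; group
    calc q * (x * x) = ⁅q, x⁆ * x * (q * x) := by rw [← mul_assoc, e]; group
      _ = ⁅q, x⁆ * x * (⁅q, x⁆ * (x * q)) := by rw [e]
      _ = ⁅q, x⁆ * ⁅q, x⁆ * (x * x * q) := by
        rw [mul_assoc ⁅q, x⁆ x, ← mul_assoc x ⁅q, x⁆, ← hxc]; group
      _ = x * x * q := by rw [h.sq _ hcV, one_mul]
  have hXp : IsPGroup 2 X := fun x => ⟨2, Subtype.ext (by
    have := h.sq _ (hX4 x x.2)
    show (x : G) ^ 2 ^ 2 = 1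
    rw [show (2 : ℕ) ^ 2 = 4 from rfl, show (x : G) ^ 4 = (x * x) * (x * x) by simp [pow_succ, mul_assoc], this])⟩
  have hmX : m ∈ X := ⟨hm, Subgroup.mem_centralizer_iff.mpr hc⟩
  exact hXQ m hmX (le_Qof inf_le_left hXp hXn hmX)

/-- Symmetry. -/
theorem symm_rel (hU : IsLine V U) : V ≤ Pof U := by
  obtain ⟨U', hp⟩ := h.exists_pair hU
  have hUh := h.line_hyp hU
  have hVN : V ≤ Subgroup.normalizer (U : Set G) := h.le_normalizer hU
  have hUM : U ≤ Subgroup.normalizer (V : Set G) := hU.2.2.trans (Pof_le V)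
  obtain ⟨g, hg⟩ := hU.1
  -- the good case
  by_cases hgood : ∃ e ∈ Pof U, e ∉ Subgroup.normalizer (V : Set G) ∧ ∃ v ∈ V, v ≠ 1 ∧ ⁅v, e⁆ ∈ U
  · obtain ⟨e, he, heM, v, hv, hv1, heU⟩ := hgood
    have haU : ⁅e, v⁆ ∈ U := by rw [← commutatorElement_inv]; exact inv_mem heU
    have ha1 : ⁅e, v⁆ ≠ 1 := fun e1 => heM (h.mem_normalizer hv hv1 (comm_one_iff.mp e1))
    obtain ⟨b, hb, hbv⟩ := h.exists_comm' hp haU ha1 hv
    have hb1 : b ≠ 1 := fun e1 => hv1 (by rw [← hbv, e1, commutatorElement_one_left])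
    have hev : e * v * e⁻¹ = b * ⁅e, v⁆ * b⁻¹ := by
      calc e * v * e⁻¹ = ⁅e, v⁆ * v := by rw [commutatorElement_def]; group
        _ = v * ⁅e, v⁆ := (h.line_comm hU haU hv).symm
        _ = ⁅b, ⁅e, v⁆⁆ * ⁅e, v⁆ := by rw [hbv]
        _ = b * ⁅e, v⁆ * b⁻¹ := by rw [commutatorElement_def b]; group
    have hline : cj e V = cj b U := by
      rw [hg, cj_cj]
      refine h.eq_of_mem (conj_mem_cj e hv) ?_ (fun e1 => hv1 ?_)
      · rw [← cj_cj, ← hg, hev]; exact conj_mem_cj b haU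
      · calc v = e⁻¹ * (e * v * e⁻¹) * e := by group
          _ = 1 := by rw [e1]; group
    have hUe : U ≤ cj b (Pof U) := by
      rw [← Pof_cj, ← hline, Pof_cj]
      conv_lhs => rw [← cj_eq_self_iff.mpr (Pof_le U he)]
      exact cj_mono e hU.2.2
    intro w hw
    obtain ⟨u, hu, hbu⟩ := h.exists_comm hp hb hb1 hw
    have h1 := mem_cj.mp (hUe hu)
    have h2 : b⁻¹ * u * b = ⁅b, u⁆ * u := by
      rw [commutatorElement_def, (h.line_hyp hp.right).inv_eq hb, mul_assoc (b * u * b) u⁻¹ u, inv_mul_cancel, mul_one]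
    rw [h2, hbu] at h1
    exact (Subgroup.mul_mem_cancel_right _ (hUh.le_P hu)).mp h1
  -- the impossible case
  push Not at hgood
  have star : ∀ e ∈ Pof U, ∀ v ∈ V, v ≠ 1 → ⁅v, e⁆ ∈ U → e ∈ Subgroup.normalizer (V : Set G) := by
    intro e he v hv hv1 hvu
    by_contra hc
    exact hgood e he hc v hv hv1 hvu
  have hconjP : ∀ {n p : G}, n ∈ Subgroup.normalizer (U : Set G) → p ∈ Pof U → n * p * n⁻¹ ∈ Pof U :=
    fun hn hp => Pof_conj_mem hn hp
  have hVP : ∀ v ∈ V, v ∈ Pof U → v = 1 := by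
    intro v hv hvP
    by_contra hv1
    refine hv1 (h.line_inter hU (hUh.center hvP fun p hpP => ?_) hv)
    have hpM : p ∈ Subgroup.normalizer (V : Set G) := star p hpP v hv hv1 (hUh.comm_mem hvP hpP)
    have h1 : ⁅v, p⁆ ∈ V := by
      rw [show ⁅v, p⁆ = v * (p * v⁻¹ * p⁻¹) by rw [commutatorElement_def]; group]
      exact mul_mem hv ((Subgroup.mem_normalizer_iff.mp hpM v⁻¹).mp (inv_mem hv))
    exact (comm_one_iff.mp (h.line_inter hU (hUh.comm_mem hvP hpP) h1)).symm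
  have hKV : ∀ k ∈ Pof U, k ∈ Subgroup.normalizer (V : Set G) → ∀ v ∈ V, v * k = k * v := by
    intro k hk hkM v hv
    refine comm_one_iff.mp (hVP _ ?_ ?_)
    · rw [show ⁅v, k⁆ = v * (k * v⁻¹ * k⁻¹) by rw [commutatorElement_def]; group]
      exact mul_mem hv ((Subgroup.mem_normalizer_iff.mp hkM v⁻¹).mp (inv_mem hv))
    · rw [commutatorElement_def]
      exact mul_mem (hconjP (hVN hv) hk) (inv_mem hk)
  have hnotle : ¬ ∀ p ∈ Pof U, p ∈ Subgroup.normalizer (V : Set G) := by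
    intro hall
    obtain ⟨v, hv, hv1⟩ : ∃ v ∈ V, v ≠ 1 := by
      obtain ⟨v, hv⟩ := Subgroup.ne_bot_iff_exists_ne_one.mp (h.ne_bot hU)
      exact ⟨v, v.2, fun e => hv (Subtype.ext e)⟩
    exact hv1 (h.line_inter hU (hUh.centralizer_P (hVN hv) fun p hp => (hKV p hp (hall p hp) v hv).symm) hv)
  have hVU : ∀ v ∈ V, ∀ u ∈ U, v * u = u * v := fun v hv u hu => h.line_comm hU hu hv
  have hyv : ∀ y ∈ Pof U, ∀ v ∈ V, ⁅v, y⁆ ∈ Subgroup.normalizer (V : Set G) := by
    intro y hy v hv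
    by_cases hv1 : v = 1
    · rw [hv1, commutatorElement_one_left]; exact one_mem _
    have he : ⁅v, y⁆ ∈ Pof U := by
      rw [commutatorElement_def]; exact mul_mem (hconjP (hVN hv) hy) (inv_mem hy)
    refine star _ he v hv hv1 ?_
    have e1 : v * ⁅v, y⁆ * v⁻¹ = ⁅v, y⁆⁻¹ := by
      rw [commutatorElement_inv, commutatorElement_def, commutatorElement_def, h.inv_eq hv]
      calc v * (v * y * v * y⁻¹) * v = (v * v) * (y * v * y⁻¹ * v) := by group
        _ = y * v * y⁻¹ * v := by rw [h.sq v hv, one_mul]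
    rw [commutatorElement_def v ⁅v, y⁆, e1, ← mul_inv_rev]
    exact inv_mem (hUh.sq_mem he)
  -- elements of `P` centralising `U`
  have hI : ∀ x ∈ Pof V, (∀ u ∈ U, x * u = u * x) → x ∈ Pof U → x ∈ U := by
    intro x hx hxU hxP'
    obtain ⟨u, hu, hxu⟩ := h.center_left hp hx hxU fun s hs hsU => by
      refine comm_one_iff.mp (hVP _ (h.comm_mem hx hs) ?_)
      have hsN : s ∈ Subgroup.normalizer (U : Set G) :=
        Subgroup.centralizer_le_normalizer _ (Subgroup.mem_centralizer_iff.mpr fun u hu => (hsU u hu).symm)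
      rw [show ⁅x, s⁆ = x * (s * x⁻¹ * s⁻¹) by rw [commutatorElement_def]; group]
      exact mul_mem hxP' (hconjP hsN (inv_mem hxP'))
    have h1 := hVP _ hxu (mul_mem hxP' (hUh.le_P hu))
    rw [eq_inv_of_mul_eq_one_left h1]
    exact inv_mem hu
  have hkU : ∀ k ∈ Pof U, ∀ u ∈ U, k * u = u * k := fun k hk u hu => (hUh.P_comm hk hu).symm
  have hKR : ∀ k ∈ Pof U, k ∈ Subgroup.normalizer (V : Set G) → ∀ r ∈ Pof V, (∀ u ∈ U, r * u = u * r) → ⁅k, r⁆ ∈ U := by
    intro k hk hkM r hr hrU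
    refine hI _ ?_ ?_ ?_
    · rw [commutatorElement_def]; exact mul_mem (Pof_conj_mem hkM hr) (inv_mem hr)
    · intro u hu
      have c1 : Commute k u := hkU k hk u hu
      have c2 : Commute r u := hrU u hu
      rw [commutatorElement_def]
      exact (((c1.mul_left c2).mul_left c1.inv_left).mul_left c2.inv_left).eq
    · have hrN : r ∈ Subgroup.normalizer (U : Set G) :=
        Subgroup.centralizer_le_normalizer _ (Subgroup.mem_centralizer_iff.mpr fun u hu => (hrU u hu).symm)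
      rw [show ⁅k, r⁆ = k * (r * k⁻¹ * r⁻¹) by rw [commutatorElement_def]; group]
      exact mul_mem hk (hconjP hrN (inv_mem hk))
  have hcinv : ∀ {a b : G}, a ∈ Pof U → b ∈ Pof U → ⁅a⁻¹, b⁆ = ⁅a, b⁆ := by
    intro a b ha hb
    have h1 := hUh.comm_mul (inv_mem ha) ha hb
    rw [inv_mul_cancel, commutatorElement_one_left] at h1
    rw [eq_inv_of_mul_eq_one_left h1.symm, hUh.inv_eq (hUh.comm_mem ha hb)]
  have hYR : ∀ y ∈ Pof U, ∀ r ∈ Pof V, (∀ u ∈ U, r * u = u * r) → ⁅y, r⁆ ∈ Subgroup.normalizer (V : Set G) := by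
    intro y hy r hr hrU
    have hrN : r ∈ Subgroup.normalizer (U : Set G) :=
      Subgroup.centralizer_le_normalizer _ (Subgroup.mem_centralizer_iff.mpr fun u hu => (hrU u hu).symm)
    have he : ⁅y, r⁆ ∈ Pof U := by
      rw [show ⁅y, r⁆ = y * (r * y⁻¹ * r⁻¹) by rw [commutatorElement_def]; group]
      exact mul_mem hy (hconjP hrN (inv_mem hy))
    obtain ⟨v, hv, hv1⟩ : ∃ v ∈ V, v ≠ 1 := by
      obtain ⟨v, hv⟩ := Subgroup.ne_bot_iff_exists_ne_one.mp (h.ne_bot hU)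
      exact ⟨v, v.2, fun e => hv (Subtype.ext e)⟩
    refine star _ he v hv hv1 ?_
    set e := ⁅y, r⁆ with hedef
    have hek : ∀ k ∈ Pof U, k ∈ Subgroup.normalizer (V : Set G) → ⁅e, k⁆ = 1 := by
      intro k hk hkM
      have hcu : ⁅k⁻¹, r⁻¹⁆ ∈ U := hKR _ (inv_mem hk) (inv_mem hkM) _ (inv_mem hr)
        fun u hu => (Commute.inv_left (hrU u hu)).eq
      have e0 : r⁻¹ * k * r = k * ⁅k⁻¹, r⁻¹⁆ := by rw [commutatorElement_def]; group
      have e1 : e = y * (r * y⁻¹ * r⁻¹) := by rw [hedef, commutatorElement_def]; group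
      have e2 : ⁅r * y⁻¹ * r⁻¹, k⁆ = ⁅y, k⁆ := by
        have e3 : ⁅r * y⁻¹ * r⁻¹, k⁆ = r * ⁅y⁻¹, r⁻¹ * k * r⁆ * r⁻¹ := by
          simp only [commutatorElement_def]; group
        have hm1 : r⁻¹ * k * r ∈ Pof U := by
          have := hconjP (inv_mem hrN) hk
          rwa [inv_inv] at this
        rw [e3, hrU _ (hUh.comm_mem (inv_mem hy) hm1), mul_inv_cancel_right, hcinv hy hm1, e0,
          hUh.comm_mul_right hk (hUh.le_P hcu) hy,
          comm_one_iff.mpr (hkU y hy _ hcu), mul_one]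
      rw [e1, hUh.comm_mul hy (hconjP hrN (inv_mem hy)) hk, e2, hUh.sq _ (hUh.comm_mem hy hk)]
    refine hUh.center (by rw [commutatorElement_def]; exact mul_mem (hconjP (hVN hv) he) (inv_mem he)) fun y' hy' => ?_
    refine (comm_one_iff.mp ?_).symm
    have hvi := h.inv_eq hv
    have hy'v : v * y' * v⁻¹ ∈ Pof U := hconjP (hVN hv) hy'
    rw [commutatorElement_def v e, hUh.comm_mul (hconjP (hVN hv) he) (inv_mem he) hy', hcinv he hy']
    have e3 : ⁅v * e * v⁻¹, y'⁆ = ⁅e, v * y' * v⁻¹⁆ := by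
      have e4 : ⁅v * e * v⁻¹, y'⁆ = v * ⁅e, v⁻¹ * y' * v⁆ * v⁻¹ := by simp only [commutatorElement_def]; group
      rw [e4, hvi, hVU v hv _ (hUh.comm_mem he (show v * y' * v ∈ Pof U by rwa [hvi] at hy'v)), mul_assoc, h.sq v hv, mul_one]
    rw [e3, ← hUh.comm_mul_right hy'v hy' he]
    refine hek _ (mul_mem hy'v hy') ?_
    have e5 : v * y' * v⁻¹ * y' = ⁅v, y'⁆ * (y' * y') := by rw [commutatorElement_def]; group
    rw [e5]
    exact mul_mem (hyv y' hy' v hv) (hUM (hUh.sq_mem hy'))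
  -- they form an abelian group
  have hRab : ∀ r ∈ Pof V, (∀ u ∈ U, r * u = u * r) → ∀ s ∈ Pof V, (∀ u ∈ U, s * u = u * s) → r * s = s * r := by
    intro r hr hrU s hs hsU
    refine comm_one_iff.mp ?_
    by_contra hw1
    set w := ⁅r, s⁆ with hw
    have hwV : w ∈ V := h.comm_mem hr hs
    refine hnotle fun y hy => star y hy w hwV hw1 ?_
    have hN : ∀ {r : G}, (∀ u ∈ U, r * u = u * r) → r ∈ Subgroup.normalizer (U : Set G) := fun hr' =>
      Subgroup.centralizer_le_normalizer _ (Subgroup.mem_centralizer_iff.mpr fun u hu => (hr' u hu).symm)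
    have hk : ∀ {r : G}, r ∈ Pof V → (∀ u ∈ U, r * u = u * r) →
        r * y * r⁻¹ * y⁻¹ ∈ Pof U ∧ r * y * r⁻¹ * y⁻¹ ∈ Subgroup.normalizer (V : Set G) := fun {r} hr hrU => by
      refine ⟨mul_mem (hconjP (hN hrU) hy) (inv_mem hy), ?_⟩
      rw [← commutatorElement_def, ← commutatorElement_inv]
      exact inv_mem (hYR y hy r hr hrU)
    obtain ⟨h1P, h1M⟩ := hk hr hrU
    obtain ⟨h2P, h2M⟩ := hk hs hsU
    set k1 := r * y * r⁻¹ * y⁻¹ with hk1
    set k2 := s * y * s⁻¹ * y⁻¹ with hk2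
    set u1 := s * k1 * s⁻¹ * k1⁻¹ with hu1d
    set u2 := r * k2 * r⁻¹ * k2⁻¹ with hu2d
    have hu1 : u1 ∈ U := by
      rw [hu1d, ← commutatorElement_def, ← commutatorElement_inv]; exact inv_mem (hKR k1 h1P h1M s hs hsU)
    have hu2 : u2 ∈ U := by
      rw [hu2d, ← commutatorElement_def, ← commutatorElement_inv]; exact inv_mem (hKR k2 h2P h2M r hr hrU)
    have ers : (r * s) * y * (r * s)⁻¹ = u2 * k2 * (k1 * y) := by rw [hu2d, hk1, hk2]; group
    have esr : (s * r) * y * (s * r)⁻¹ = u1 * k1 * (k2 * y) := by rw [hu1d, hk1, hk2]; group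
    have ew : (r * s) * y * (r * s)⁻¹ = w * ((s * r) * y * (s * r)⁻¹) * w⁻¹ := by
      rw [hw, commutatorElement_def]; group
    rw [ers, esr] at ew
    have cw : Commute w (u1 * (k1 * k2)) :=
      (Commute.mul_right (hVU w hwV u1 hu1) (Commute.mul_right (hKV k1 h1P h1M w hwV) (hKV k2 h2P h2M w hwV)))
    have e2 : u2 * k2 * (k1 * y) = u1 * (k1 * k2) * (w * y * w⁻¹) := by
      rw [ew, ← mul_assoc (u1 * (k1 * k2)), ← mul_assoc (u1 * (k1 * k2)), ← cw.eq]; group
    have e3 : ⁅w, y⁆ = (k1 * k2)⁻¹ * (u1⁻¹ * u2) * (k2 * k1) := by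
      have : w * y * w⁻¹ = (u1 * (k1 * k2))⁻¹ * (u2 * k2 * (k1 * y)) := by rw [e2]; group
      rw [commutatorElement_def, this]; group
    rw [e3, mul_assoc, ← (Commute.mul_left (hkU k2 h2P _ (mul_mem (inv_mem hu1) hu2))
      (hkU k1 h1P _ (mul_mem (inv_mem hu1) hu2))).eq, ← mul_assoc]
    refine mul_mem ?_ (mul_mem (inv_mem hu1) hu2)
    rw [show (k1 * k2)⁻¹ * (k2 * k1) = ⁅k2⁻¹, k1⁻¹⁆ by rw [commutatorElement_def]; group]
    exact hUh.comm_mem (inv_mem h2P) (inv_mem h1P)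
  have hRW : ∀ r ∈ Pof V, (∀ u ∈ U, r * u = u * r) → ∃ u ∈ U, r * u ∈ V := fun r hr hrU =>
    h.center_left hp hr hrU fun s hs hsU => hRab r hr hrU s hs hsU
  -- the subgroup of elements stabilising the chain
  let X0 : Subgroup G :=
    { carrier := {m | m ∈ Subgroup.normalizer (V : Set G) ∧ (∀ v ∈ V, v * m = m * v) ∧ ∀ p ∈ Pof V, ⁅m, p⁆ ∈ V}
      one_mem' := ⟨one_mem _, fun v _ => by simp, fun p _ => by simp [one_mem]⟩
      mul_mem' := fun {a b} ha hb => ⟨mul_mem ha.1 hb.1,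
        fun v hv => Commute.mul_right (ha.2.1 v hv) (hb.2.1 v hv), fun p hp => by
          have e : ⁅a * b, p⁆ = a * ⁅b, p⁆ * a⁻¹ * ⁅a, p⁆ := by simp only [commutatorElement_def]; group
          rw [e, ← ha.2.1 _ (hb.2.2 p hp), mul_inv_cancel_right]
          exact mul_mem (hb.2.2 p hp) (ha.2.2 p hp)⟩
      inv_mem' := fun {a} ha => ⟨inv_mem ha.1, fun v hv => Commute.inv_right (ha.2.1 v hv), fun p hp => by
        have h1 := ha.2.2 p hp
        have e : ⁅a⁻¹, p⁆ = a⁻¹ * ⁅a, p⁆⁻¹ * a := by simp only [commutatorElement_def]; group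
        have h2 : ⁅a, p⁆⁻¹ * a = a * ⁅a, p⁆⁻¹ := ha.2.1 _ (inv_mem h1)
        rw [e, mul_assoc, h2, inv_mul_cancel_left]
        exact inv_mem h1⟩ }
  have hX0Q : X0 ≤ Qof V := by
    refine le_Qof (fun m hm => hm.1) (fun m => ⟨2, Subtype.ext ?_⟩) fun n hn a ha => ?_
    · obtain ⟨hm1, hm2, hm3⟩ := m.2
      set x := (m : G)
      have hx2 : x * x ∈ V := by
        refine h.centralizer_P (mul_mem hm1 hm1) fun p hp => ?_
        have hc := hm3 p hp
        have e : x * p = ⁅x, p⁆ * (p * x) := by rw [commutatorElement_def]; group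
        calc p * (x * x) = ⁅x, p⁆ * ⁅x, p⁆ * (p * x) * x := by rw [h.sq _ hc, one_mul, mul_assoc]
          _ = ⁅x, p⁆ * (x * p) * x := by rw [e]; group
          _ = x * (⁅x, p⁆ * (p * x)) := by simp only [← mul_assoc, hm2 _ hc]
          _ = x * (x * p) := by rw [e]
          _ = x * x * p := (mul_assoc _ _ _).symm
      show x ^ 2 ^ 2 = 1
      rw [show (2 : ℕ) ^ 2 = 4 from rfl, show x ^ 4 = (x * x) * (x * x) by simp [pow_succ, mul_assoc], h.sq _ hx2]
    · refine ⟨mul_mem (mul_mem hn ha.1) (inv_mem hn), fun v hv => ?_, fun p hp => ?_⟩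
      · have h1 := ha.2.1 _ ((Subgroup.mem_normalizer_iff.mp (inv_mem hn) v).mp hv)
        rw [inv_inv] at h1
        calc v * (n * a * n⁻¹) = n * ((n⁻¹ * v * n) * a) * n⁻¹ := by group
          _ = n * (a * (n⁻¹ * v * n)) * n⁻¹ := by rw [h1]
          _ = n * a * n⁻¹ * v := by group
      · have h1 := (Subgroup.mem_normalizer_iff.mp hn _).mp (ha.2.2 _ (Pof_conj_mem (inv_mem hn) hp))
        rw [conjugate_commutatorElement] at h1
        simpa [mul_assoc] using h1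
  have hK : ∀ k ∈ Pof U, k ∈ Subgroup.normalizer (V : Set G) → k ∈ U := by
    intro k hk hkM
    have hfixW : ∀ r ∈ Pof V, (∀ u ∈ U, r * u = u * r) → k * r = r * k := by
      intro r hr hrU
      obtain ⟨u, hu, hv⟩ := hRW r hr hrU
      have e : r = (r * u) * u⁻¹ := by rw [mul_inv_cancel_right]
      rw [e]
      exact Commute.mul_right (hKV k hk hkM _ hv).symm (hkU k hk _ (inv_mem hu))
    have hkb : ∀ b ∈ U', ⁅k, b⁆ ∈ V := by
      intro b hb
      have hbP := hp.right.2.2 hb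
      have hbb : b * b = 1 := (h.line_hyp hp.right).sq b hb
      have hbi : b⁻¹ = b := inv_eq_of_mul_eq_one_right hbb
      by_cases hb1 : b = 1
      · rw [hb1, commutatorElement_one_right]; exact one_mem _
      set x := k * b * k⁻¹ with hx
      have hxP : x ∈ Pof V := Pof_conj_mem hkM hbP
      have hxb : ∀ u ∈ U, (x * b) * u = u * (x * b) := fun u hu => by
        refine comm_one_iff.mp ?_
        have huP := hU.2.2 hu
        have hku : k * u * k⁻¹ = u := by rw [hkU k hk u hu, mul_inv_cancel_right]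
        have h1 : ⁅x, u⁆ = ⁅b, u⁆ := by
          conv_lhs => rw [← hku, hx, ← conjugate_commutatorElement]
          rw [← hKV k hk hkM _ (h.comm_mem hbP huP), mul_inv_cancel_right]
        rw [h.comm_mul hxP hbP huP, h1, h.sq _ (h.comm_mem hbP huP)]
      obtain ⟨u0, hu0, hv⟩ := hRW _ (mul_mem hxP hbP) hxb
      have hu0i : u0⁻¹ = u0 := hUh.inv_eq hu0
      set v := x * b * u0 with hvd
      have hxe : x = v * (u0 * b) := by
        rw [hvd, ← mul_assoc, mul_assoc (x * b), hUh.sq u0 hu0, mul_one, mul_assoc, hbb, mul_one]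
      have hu0P := hU.2.2 hu0
      have cvu : Commute v (u0 * b) := Commute.mul_right (hVU v hv u0 hu0) (h.P_comm hbP hv)
      have hsq : (u0 * b) * (u0 * b) = 1 := by
        have h1 : x * x = 1 := by
          rw [hx, show k * b * k⁻¹ * (k * b * k⁻¹) = k * (b * b) * k⁻¹ by group, hbb, mul_one, mul_inv_cancel]
        rw [hxe] at h1
        have h2 : v * (u0 * b) * (v * (u0 * b)) = (v * v) * ((u0 * b) * (u0 * b)) := by
          rw [mul_assoc v, ← mul_assoc (u0 * b) v, ← cvu.eq]; group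
        rwa [h2, h.sq v hv, one_mul] at h1
      have hu01 : u0 = 1 := by
        by_contra hne
        refine h.free hp hb hb1 hu0 hne ?_
        calc b * u0 = (u0 * b)⁻¹ := by rw [mul_inv_rev, hbi, hu0i]
          _ = u0 * b := inv_eq_of_mul_eq_one_right hsq
      have h9 : ⁅k, b⁆ = x * b := by rw [commutatorElement_def, hx, hbi]
      rw [h9]
      have : v = x * b := by rw [hvd, hu01, mul_one]
      exact this ▸ hv
    have hkX : k ∈ X0 := ⟨hkM, hKV k hk hkM, fun p hpP => by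
      obtain ⟨b, hb, hs⟩ := h.decompose hp hpP
      have hsP := mul_mem hpP (hp.right.2.2 hb)
      have hks := hfixW _ hsP hs
      have e : ⁅k, p⁆ = ⁅k, p * b⁆ * ((p * b) * ⁅k, b⁻¹⁆ * (p * b)⁻¹) := by simp only [commutatorElement_def]; group
      rw [e, comm_one_iff.mpr hks, one_mul, ← h.P_comm hsP (hkb _ (inv_mem hb)), mul_inv_cancel_right]
      exact hkb _ (inv_mem hb)⟩
    have hkP : k ∈ Pof V := ⟨hX0Q hkX, Subgroup.mem_centralizer_iff.mpr hkX.2.1⟩
    exact hI k hkP (hkU k hk) hk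
  exfalso
  obtain ⟨v, hv, hv1⟩ : ∃ v ∈ V, v ≠ 1 := by
    obtain ⟨v, hv⟩ := Subgroup.ne_bot_iff_exists_ne_one.mp (h.ne_bot hU)
    exact ⟨v, v.2, fun e => hv (Subtype.ext e)⟩
  refine hnotle fun y hy => star y hy v hv hv1 (hK _ ?_ (hyv y hy v hv))
  rw [commutatorElement_def]
  exact mul_mem (hconjP (hVN hv) hy) (inv_mem hy)

end Hyp

end CfsgLib.TISpecial
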